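import Groth.Agent.VarietyB.TwistMul
import Groth.Agent.Divis.ProjPic
import Groth.Agent.Sga67.PnGlobal
import Groth.Agent.Ega2.TwistInv
import Groth.Agent.Ega2.TensLift
import Groth.Agent.Ega3B.ProjFrame
import Groth.Agent.Dcoh.Restrict
import Groth.Prelude.Def_Formal

/-!
# Homomorphisms `O(m) → O(m')` on `P^n_R` are multiplications by forms

* `exists_poly`: a global section of `O(d)`, `d ≥ 0`, is a form of degree `d`.
* `evT_mulMap`: value of the multiplication map `mulMap`.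
* `exists_mulMap`: every `O(m) ⟶ O(m + d)` is `mulMap a` for a form `a` of degree `d`.
* `mulMap_inj`: `mulMap a = mulMap b ↔ a = b` (`R` a domain).
-/

set_option autoImplicit false

universe u

open CategoryTheory CategoryTheory.Limits AlgebraicGeometry Opposite TopologicalSpace

namespace K699.TwHom

open Groth.Agent Groth.Agent.Divis.ProjPic Groth.Agent.VarietyB.TwistMul Groth.Agent.Ega2.Tens

variable {n : ℕ} {R : Type u} [CommRing R]

variable (n R) in
/-- `O(d)`. -/
noncomputable abbrev O (d : ℤ) : (CohB1.ProjSpace n R).Modules := Twist.twistProjSpace n R d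

variable (n R) in
/-- The grading of the polynomial ring. -/
noncomputable abbrev gr : ℕ → Submodule R (MvPolynomial (Fin (n + 1)) R) := CohB1.polyGrading n R

/-- The map from the polynomial ring to its localization at a point. -/
noncomputable abbrev al (x : ProjectiveSpectrum (gr n R)) : MvPolynomial (Fin (n + 1)) R →+* Twist.Loc (gr n R) x :=
  algebraMap _ _

theorem exists_poly {d : ℕ} (s : Γ(Twist.twist (gr n R) (d : ℤ), (⊤ : (Proj (gr n R)).Opens))) :
    ∃ a : gr n R d, ∀ (x : ProjectiveSpectrum (gr n R)) (hx : x ∈ (⊤ : (Proj (gr n R)).Opens)),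
      evT s x hx = al x a.1 := by
  obtain ⟨c, rfl⟩ := Sga67.PnGlobal.lin_surjective R s
  refine ⟨∑ P, c P • Sga67.PnGlobal.mono R P, fun x hx => ?_⟩
  have h1 := Sga67.PnGlobal.ev_lin R c x
  refine h1.trans ?_
  rw [Submodule.coe_sum, map_sum]
  refine Finset.sum_congr rfl fun P _ => ?_
  have h2 := Sga67.PnGlobal.ev_msec R P x
  rw [← h2]
  change c P • Localization.mk (Sga67.PnGlobal.mono R P).1 ⟨1, _⟩ = al x (c P • (Sga67.PnGlobal.mono R P).1)
  have h3 : (Localization.mk (Sga67.PnGlobal.mono R P).1 ⟨1, one_notMem x⟩ : Twist.Loc (gr n R) x) =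
      al x (Sga67.PnGlobal.mono R P).1 := Localization.mk_one_eq_algebraMap _
  refine (congrArg (c P • ·) h3).trans ?_
  rw [Algebra.smul_def, Algebra.smul_def, map_mul]
  rfl

theorem evT_mulMap {i : ℕ} (a : gr n R i) {m m' : ℤ} (h : m + i = m') {U : (Proj (gr n R)).Opens}
    (s : Γ(Twist.twist (gr n R) m, U)) (x : ProjectiveSpectrum (gr n R)) (hx : x ∈ U) :
    evT ((mulMap a h).app U s) x hx = al x a.1 * evT s x hx := rfl

theorem tensDesc_tmul {X : Scheme.{u}} {M N K : X.Modules}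
    (μ : ∀ U : X.Opens, Γ(M, U) →ₗ[Γ(X, U)] Γ(N, U) →ₗ[Γ(X, U)] Γ(K, U))
    (hμ : ∀ (U V : X.Opens) (i : U ⟶ V) (m : Γ(M, V)) (n : Γ(N, V)),
      K.presheaf.map i.op (μ V m n) = μ U (M.presheaf.map i.op m) (N.presheaf.map i.op n))
    (U : X.Opens) (m : Γ(M, U)) (n : Γ(N, U)) :
    (Ega2.TensHom.tensDesc μ hμ).app U (tmul m n) = μ U m n := by
  have h := (PresheafOfModules.sheafificationHomEquiv (𝟙 X.ringCatSheaf.obj)
    (P := CohB1.tensorPre M N) (F := K)).apply_symm_apply (Ega2.TensHom.preDesc μ hμ)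
  have h2 := congr((((PresheafOfModules.toPresheaf _).map $h).app (op U)) (pt m n))
  have h3 : TensorProduct.lift (μ U) (TensorProduct.tmul _ m n) = μ U m n :=
    TensorProduct.lift.tmul _ _
  exact h2.trans h3

/-- The multiplication on tensors. -/
theorem mulHom_tmul {m m' k : ℤ} (hk : m + m' = k) {U : (Proj (gr n R)).Opens}
    (s : Γ(Twist.twist (gr n R) m, U)) (t : Γ(Twist.twist (gr n R) m', U)) :
    (Ega2.TwistMul.mulHom (gr n R) hk).app U (tmul s t) = Ega2.TwistMul.mulLin (gr n R) hk U s t :=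
  tensDesc_tmul _ _ U s t

theorem evT_mulLin {m m' k : ℤ} (hk : m + m' = k) {U : (Proj (gr n R)).Opens}
    (s : Γ(Twist.twist (gr n R) m, U)) (t : Γ(Twist.twist (gr n R) m', U)) (x : ProjectiveSpectrum (gr n R))
    (hx : x ∈ U) :
    evT (Ega2.TwistMul.mulLin (gr n R) hk U s t) x hx = evT s x hx * evT t x hx := rfl

/-- The section `1` of `O(0)`. -/
noncomputable def one0 (U : (Proj (gr n R)).Opens) : Γ(Twist.twist (gr n R) 0, U) :=
  Ega2.TwistInv.oneSec (𝒜 := gr n R) U

theorem evT_one0 {U : (Proj (gr n R)).Opens} (x : ProjectiveSpectrum (gr n R)) (hx : x ∈ U) :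
    evT (one0 U) x hx = 1 := Localization.mk_one

theorem res_one0 {U V : (Proj (gr n R)).Opens} (h : V ≤ U) :
    (Twist.twist (gr n R) 0).presheaf.map (homOfLE h).op (one0 U) = one0 V :=
  evT_ext fun _ _ => rfl

theorem exists_smul_one0 {U : (Proj (gr n R)).Opens} (s : Γ(Twist.twist (gr n R) 0, U)) :
    ∃ c : Γ(Proj (gr n R), U), c • one0 U = s :=
  (Ega2.TwistBasic.bijective_smul_fracSec (𝒜 := gr n R) 0 (⟨1, SetLike.GradedOne.one_mem⟩ : gr n R 0)
    (⟨1, SetLike.GradedOne.one_mem⟩ : gr n R 0) (by simp) U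
    (fun x _ h => x.isPrime.ne_top ((Ideal.eq_top_iff_one _).mpr h))
    (fun x _ h => x.isPrime.ne_top ((Ideal.eq_top_iff_one _).mpr h))).2 s

/-- A homomorphism `O(0) ⟶ O(d)` is determined by the image `q` of `1`, in terms of values. -/
theorem evT_hom_zero {d : ℤ} (θ : Twist.twist (gr n R) 0 ⟶ Twist.twist (gr n R) d) {U : (Proj (gr n R)).Opens}
    (s : Γ(Twist.twist (gr n R) 0, U)) (x : ProjectiveSpectrum (gr n R)) (hx : x ∈ U) :
    evT (θ.app U s) x hx = evT s x hx * evT (θ.app ⊤ (one0 ⊤)) x trivial := by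
  obtain ⟨c, rfl⟩ := exists_smul_one0 s
  have h1 : θ.app U (one0 U) = (Twist.twist (gr n R) d).presheaf.map (homOfLE (le_top : U ≤ ⊤)).op (θ.app ⊤ (one0 ⊤)) := by
    rw [← res_one0 (le_top : U ≤ ⊤)]
    exact (Dcoh.Restrict.app_map_apply θ (homOfLE (le_top : U ≤ ⊤)) (one0 ⊤))
  have h2 : θ.app U (c • one0 U) = c • θ.app U (one0 U) := (θ.val.app (op U)).hom.map_smul c _
  rw [h2, h1, evT_smul, evT_smul, evT_one0, mul_one]
  rfl

theorem exists_section {m m' d : ℤ} (h : m + d = m')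
    (φ : Twist.twist (gr n R) m ⟶ Twist.twist (gr n R) m') :
    ∃ q : Γ(Twist.twist (gr n R) d, (⊤ : (Proj (gr n R)).Opens)),
      ∀ (U : (Proj (gr n R)).Opens) (s : Γ(Twist.twist (gr n R) m, U)) (x : ProjectiveSpectrum (gr n R)) (hx : x ∈ U),
        evT (φ.app U s) x hx = evT q x trivial * evT s x hx := by
  have hcov := Ega3B.ProjFrame.coveredByOne n R
  have hA : IsIso (Ega2.TwistMul.mulHom (gr n R) (show m + (-m) = 0 by ring)) :=
    Ega2.TwistInv.isIso_mulHom hcov _
  let A := Ega2.TwistMul.mulHom (gr n R) (show m + (-m) = 0 by ring)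
  let B := Ega2.TwistMul.mulHom (gr n R) (show m' + (-m) = d by omega)
  let θ : Twist.twist (gr n R) 0 ⟶ Twist.twist (gr n R) d := inv A ≫ mapT φ (𝟙 _) ≫ B
  have hθ : A ≫ θ = mapT φ (𝟙 _) ≫ B := by simp [θ]
  refine ⟨θ.app ⊤ (one0 ⊤), fun U s x hx => ?_⟩
  obtain ⟨f, W, hxW, hW⟩ := hcov x
  let V := U ⊓ W
  have hV : ∀ y ∈ V, f.1 ∉ (y : ProjectiveSpectrum (gr n R)).asHomogeneousIdeal := fun y hy => hW y hy.2
  let t : Γ(Twist.twist (gr n R) (-m), V) := Ega2.TwistInv.powSec f (-m) V hV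
  let s' : Γ(Twist.twist (gr n R) m, V) := (Twist.twist (gr n R) m).presheaf.map (homOfLE (inf_le_left : V ≤ U)).op s
  have h1 : θ.app V (A.app V (tmul s' t)) = B.app V (tmul (φ.app V s') t) := by
    have h2 := congrArg (fun ψ => Scheme.Modules.Hom.app ψ V (tmul s' t)) hθ
    refine (show θ.app V (A.app V (tmul s' t)) = B.app V ((mapT φ (𝟙 _)).app V (tmul s' t)) from h2).trans ?_
    rw [mapT_tmul]
    rfl
  rw [show A.app V (tmul s' t) = _ from mulHom_tmul _ s' t,
    show B.app V (tmul (φ.app V s') t) = _ from mulHom_tmul _ _ t] at h1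
  have hxV : x ∈ V := ⟨hx, hxW⟩
  have h3 := congrArg (fun z => evT z x hxV) h1
  dsimp only at h3
  rw [evT_hom_zero, evT_mulLin, evT_mulLin] at h3
  have h4 : IsUnit (evT t x hxV) :=
    Ega2.TwistBasic.isUnit_mk x _ _ (Ega2.TwistInv.powOne_notMem (hV x hxV) _) (Ega2.TwistInv.powOne_notMem (hV x hxV) _)
  have h5 : evT (φ.app V s') x hxV = evT (φ.app U s) x hx := by
    have h6 : φ.app V s' = (Twist.twist (gr n R) m').presheaf.map (homOfLE (inf_le_left : V ≤ U)).op (φ.app U s) :=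
      Dcoh.Restrict.app_map_apply φ _ s
    rw [h6]
    rfl
  have h7 : evT s' x hxV = evT s x hx := rfl
  rw [h5, h7] at h3
  apply h4.mul_left_injective
  dsimp only
  rw [← h3]
  ring

theorem exists_mulMap {m m' : ℤ} {d : ℕ} (h : m + d = m')
    (φ : Twist.twist (gr n R) m ⟶ Twist.twist (gr n R) m') : ∃ a : gr n R d, φ = mulMap a h := by
  obtain ⟨q, hq⟩ := exists_section h φ
  obtain ⟨a, ha⟩ := exists_poly q
  refine ⟨a, hom_ext_apply _ _ fun U s => evT_ext fun x hx => ?_⟩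
  exact (hq U s x hx).trans (congrArg (· * evT s x hx) (ha x trivial))

end K699.TwHom
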