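import Groth.Agent.VBPn.K699.Norm
import Groth.Agent.SDiv.K475.Rank1
import Groth.Agent.SDiv.K475.Ddual
import Groth.Agent.Sga67.Sec

/-!
# Kernels of maps from reflexive to torsion-free modules; reflexive modules of rank one on regular schemes
-/

set_option autoImplicit false
universe u
open CategoryTheory CategoryTheory.Limits AlgebraicGeometry TopologicalSpace Opposite

namespace K699.RefOne

open Groth.Agent Groth.Agent.Divis.ReflexExtend Groth.Agent.Divis.ReflexSheaf Groth.Agent.Sga67.Sec K699.Norm

variable {X : Scheme.{u}}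

/-- A section of a torsion-free quasi-coherent module vanishing on a nonempty open vanishes. -/
theorem eq_zero_of_res [IsIntegral X] {F : X.Modules} (hF : Coh.IsQCoh F) (htf : TorSh.IsTorsionFree F)
    {U V : X.Opens} (hVU : V ≤ U) (hη : genericPoint X ∈ U → genericPoint X ∈ V) (s : Sec F U)
    (h : res F hVU s = 0) : s = 0 := by
  refine eq_zero_of_germ F (U := U) s fun x hx => ?_
  apply K848.TF.spec_injective hF htf x
  rw [map_zero]
  have hU : genericPoint X ∈ U := (K848.TF.gen x).mem_open U.isOpen hx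
  have h1 : F.presheaf.stalkSpecializes (K848.TF.gen x) (F.presheaf.germ U x hx s) =
      F.presheaf.germ U (genericPoint X) hU s :=
    TopCat.Presheaf.germ_stalkSpecializes_apply F.presheaf hx (K848.TF.gen x) s
  rw [h1]
  have h2 : F.presheaf.germ V (genericPoint X) (hη hU) (res F hVU s) = F.presheaf.germ U (genericPoint X) hU s :=
    TopCat.Presheaf.germ_res_apply F.presheaf (homOfLE hVU) (genericPoint X) (hη hU) s
  rw [← h2, h]
  exact map_zero _

theorem eta_mem [IsIntegral X] {U V : X.Opens}
    (hcod : ∀ x : X, x ∈ U → x ∉ V → (2 : WithBot ℕ∞) ≤ ringKrullDim (X.presheaf.stalk x)) :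
    genericPoint X ∈ U → genericPoint X ∈ V := by
  intro hU
  by_contra hV
  have h1 := hcod _ hU hV
  have h2 : ringKrullDim (X.presheaf.stalk (genericPoint X)) = 0 :=
    ringKrullDim_eq_zero_of_field X.functionField
  rw [h2] at h1
  exact absurd h1 (by decide)

/-- The kernel of a map from a normal module to a torsion-free module is normal. -/
theorem bijective_of_exact [IsIntegral X] {S : ShortComplex X.Modules} (hS : S.Exact) [Mono S.f]
    (hQ : Coh.IsQCoh S.X₃) (htf : TorSh.IsTorsionFree S.X₃) {U V : X.Opens} (hVU : V ≤ U)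
    (hcod : ∀ x : X, x ∈ U → x ∉ V → (2 : WithBot ℕ∞) ≤ ringKrullDim (X.presheaf.stalk x))
    (hE : Function.Bijective (res S.X₂ hVU)) : Function.Bijective (res S.X₁ hVU) := by
  constructor
  · rw [injective_iff_map_eq_zero]
    intro s hs
    apply injective_of_mono S.f U
    rw [map_zero]
    apply hE.1
    rw [← appS_res, hs, map_zero, map_zero]
  · intro t
    obtain ⟨e, he⟩ := hE.2 (appS S.f V t)
    have h1 : appS S.g U e = 0 := by
      apply eq_zero_of_res hQ htf hVU (eta_mem hcod)
      rw [← appS_res, he, ← appS_comp, S.zero, appS_zero]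
    obtain ⟨s, hs⟩ := exists_of_appS_eq_zero hS e h1
    refine ⟨s, ?_⟩
    apply injective_of_mono S.f V
    rw [appS_res, hs, he]

theorem isIso_unit [IsIntegral X] [IsLocallyNoetherian X]
    (hn : ∀ x : X, IsIntegrallyClosed (X.presheaf.stalk x)) {F : X.Modules} (hF : Coh.IsCoh F)
    (hr : ∀ x : X, Module.IsReflexive (X.presheaf.stalk x) (F.presheaf.stalk x)) {U : X.Opens}
    (hU : K848.Hartogs.Big U) : IsIso ((Scheme.Modules.restrictAdjunction U.ι).unit.app F) := by
  rw [isIso_unit_iff]
  intro V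
  exact bijective_of_isReflexive hn hF hr V (V ⊓ U) inf_le_left fun x hxV hx => hU x fun h => hx ⟨hxV, h⟩

/-- Reflexive modules of rank one on a regular integral scheme are invertible. -/
theorem isInvertible_of_isReflexive [IsIntegral X] [IsLocallyNoetherian X]
    (hreg : ∀ x : X, IsRegularLocalRing (X.presheaf.stalk x)) {F : X.Modules} (hF : Coh.IsCoh F)
    (hr : ∀ x : X, Module.IsReflexive (X.presheaf.stalk x) (F.presheaf.stalk x)) (hrk : RefHull.GenInvertible F) :
    ∃ M : X.Modules, PicF.IsInvertible M ∧ Nonempty (F ≅ M) := by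
  have hn := K848.Hull.isIntegrallyClosed_of_regular hreg
  have htf : TorSh.IsTorsionFree F := fun x => K475.Ddual.isTorsionFree_of_isReflexive (hr x)
  have h1 : K848.Hull.rk F = 1 := by
    obtain ⟨t, ht⟩ := K475.Rank1.exists_isGen_of_genInvertible hrk
    have e : X.presheaf.stalk (genericPoint X) ≃ₗ[X.presheaf.stalk (genericPoint X)]
        F.presheaf.stalk (genericPoint X) :=
      LinearEquiv.ofBijective (LinearMap.toSpanSingleton _ _ t) ht
    rw [K848.Hull.rk, ← e.finrank_eq, Module.finrank_self]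
  obtain ⟨M, hM, φ, U, -, hU, hbij, -⟩ := K848.Hull.exists_hull hreg hF htf h1
  have hMf : FlatMod.IsFinLocFree M := fun x => by
    obtain ⟨V, hxV, e⟩ := (Groth.Agent.Ega2.QCohLocal.isFinLocFreeOfRank_one_iff.mpr hM) x
    exact ⟨V, 1, hxV, e⟩
  have hMc : Coh.IsCoh M := Groth.Agent.PerfA.CohSerre.isCoh_of_isFinLocFree hMf
  have hiM := K848.Hartogs.isIso_unit hn hU hMc hMf
  have hiF := isIso_unit hn hF hr hU
  have hφ := K848.Hartogs.isIso_restrict_of_stalk φ hbij
  obtain ⟨ψ, hψ⟩ := K848.Hartogs.exists_map_eq_of_unit (Scheme.Modules.restrictAdjunction U.ι)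
    (inv ((Scheme.Modules.restrictFunctor U.ι).map φ))
  refine ⟨M, hM, ⟨⟨φ, ψ, ?_, ?_⟩⟩⟩
  · apply K848.Hartogs.map_injective_of_unit (Scheme.Modules.restrictAdjunction U.ι)
    rw [Functor.map_comp, hψ, IsIso.hom_inv_id, CategoryTheory.Functor.map_id]
  · apply K848.Hartogs.map_injective_of_unit (Scheme.Modules.restrictAdjunction U.ι)
    rw [Functor.map_comp, hψ, IsIso.inv_hom_id, CategoryTheory.Functor.map_id]

end K699.RefOne
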