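import Groth.Agent.VBPn.K699.TwHom
import Groth.Agent.Sga67.Sec
import Groth.Agent.Krr.H492.EulerSeq

/-!
# Matrices of forms as morphisms between sums of twists on `P^n_R`

* `gm h A : ⨁_ι O(m) ⟶ ⨁_κ O(m')` for a matrix `A` of forms of degree `d`, `m + d = m'`.
* `col`, `row`: from or to a single `O(m)`.
* `val`: the vector of values of a section of `⨁_ι O(m)` at a point; `val_ext`, `val_gm`, `val_col`, `evT_row`.
* `exists_gm`, `exists_col`, `exists_row`: every morphism is of this form.
-/

set_option autoImplicit false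

universe u

open CategoryTheory CategoryTheory.Limits AlgebraicGeometry Opposite TopologicalSpace

namespace K699.GMat

open Groth.Agent Groth.Agent.Divis.ProjPic Groth.Agent.VarietyB.TwistMul K699.TwHom Groth.Agent.Sga67.Sec

attribute [local instance] Abelian.hasFiniteBiproducts

variable {n : ℕ} {R : Type u} [CommRing R] {ι κ ν : Type} [Finite ι] [Finite κ] [Finite ν]

variable (n R) in
/-- `O(m)` as a module over `Proj`. -/
noncomputable abbrev T (m : ℤ) : (Proj (gr n R)).Modules := Twist.twist (gr n R) m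

variable (n R ι) in
/-- `⨁_ι O(m)`. -/
noncomputable abbrev OO (m : ℤ) : (Proj (gr n R)).Modules := ⨁ fun _ : ι => T n R m

/-- The projections. -/
noncomputable abbrev pr (m : ℤ) (i : ι) : OO n R ι m ⟶ T n R m := biproduct.π (fun _ : ι => T n R m) i

/-- The inclusions. -/
noncomputable abbrev inc (m : ℤ) (i : ι) : T n R m ⟶ OO n R ι m := biproduct.ι (fun _ : ι => T n R m) i

/-- The vector of values of a section of `⨁_ι O(m)` at a point. -/
noncomputable def val {m : ℤ} {U : (Proj (gr n R)).Opens} (s : Sec (OO n R ι m) U)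
    (x : ProjectiveSpectrum (gr n R)) (hx : x ∈ U) (i : ι) : Twist.Loc (gr n R) x :=
  evT (appS (pr m i) U s) x hx

theorem appS_sum {X : Scheme.{u}} {M N : X.Modules} {ι : Type*} (A : Finset ι) (φ : ι → (M ⟶ N)) (U : X.Opens)
    (s : Sec M U) : appS (∑ i ∈ A, φ i) U s = ∑ i ∈ A, appS (φ i) U s := by
  classical
  induction A using Finset.induction_on with
  | empty => rw [Finset.sum_empty, Finset.sum_empty, appS_zero]
  | insert a A ha ih => rw [Finset.sum_insert ha, Finset.sum_insert ha, appS_add, ih]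

theorem sec_total {X : Scheme.{u}} {ι : Type} [Fintype ι] (K : ι → X.Modules) (U : X.Opens) (s : Sec (⨁ K) U) :
    ∑ j, appS (biproduct.ι K j) U (appS (biproduct.π K j) U s) = s := by
  have h : appS (∑ j, biproduct.π K j ≫ biproduct.ι K j) U s = s :=
    congrArg (fun φ => appS φ U s) (biproduct.total (f := K))
  rw [appS_sum] at h
  exact h

theorem sec_ext {X : Scheme.{u}} {ι : Type} [Finite ι] (K : ι → X.Modules) (U : X.Opens) (s t : Sec (⨁ K) U)
    (h : ∀ j, appS (biproduct.π K j) U s = appS (biproduct.π K j) U t) : s = t := by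
  have := Fintype.ofFinite ι
  rw [← sec_total K U s, ← sec_total K U t]
  exact Finset.sum_congr rfl fun j _ => by rw [h j]

theorem val_ext {m : ℤ} {U : (Proj (gr n R)).Opens} {s t : Sec (OO n R ι m) U}
    (h : ∀ (x : ProjectiveSpectrum (gr n R)) (hx : x ∈ U) (i : ι), val s x hx i = val t x hx i) : s = t :=
  sec_ext _ U s t fun i => evT_ext fun x hx => h x hx i

theorem val_res {m : ℤ} {U V : (Proj (gr n R)).Opens} (h : V ≤ U) (s : Sec (OO n R ι m) U)
    (x : ProjectiveSpectrum (gr n R)) (hx : x ∈ V) : val (res _ h s) x hx = val s x (h hx) := by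
  funext i
  have h1 : appS (pr m i) V (res _ h s) = res _ h (appS (pr m i) U s) := appS_res _ _ _
  exact (congrArg (fun t => evT t x hx) h1).trans (evT_res h _ x hx)

theorem val_add {m : ℤ} {U : (Proj (gr n R)).Opens} (s t : Sec (OO n R ι m) U)
    (x : ProjectiveSpectrum (gr n R)) (hx : x ∈ U) : val (s + t) x hx = val s x hx + val t x hx := by
  funext i
  exact congrArg (fun t => evT t x hx) (map_add (appS (pr m i) U) s t)

theorem val_smul {m : ℤ} {U : (Proj (gr n R)).Opens} (r : Γ(Proj (gr n R), U)) (s : Sec (OO n R ι m) U)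
    (x : ProjectiveSpectrum (gr n R)) (hx : x ∈ U) : val (r • s) x hx = ev r x hx • val s x hx := by
  funext i
  have h1 : appS (pr m i) U (r • s) = r • appS (pr m i) U s := map_smul _ _ _
  exact (congrArg (fun t => evT t x hx) h1).trans (evT_smul r _ x hx)

/-- The section with given components. -/
theorem exists_sec {m : ℤ} {U : (Proj (gr n R)).Opens} (s : ι → Sec (T n R m) U) :
    ∃ t : Sec (OO n R ι m) U, ∀ x hx i, val t x hx i = evT (s i) x hx := by
  have := Fintype.ofFinite ι
  classical
  refine ⟨∑ i, appS (inc m i) U (s i), fun x hx i => ?_⟩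
  have h1 : appS (pr m i) U (∑ j, appS (inc m j) U (s j)) = s i := by
    rw [map_sum]
    have h2 : ∀ j, appS (pr m i) U (appS (inc m j) U (s j)) = if h : j = i then s i else 0 := by
      intro j
      rw [← appS_comp]
      split_ifs with h
      · subst h
        rw [biproduct.ι_π_self]
        rfl
      · rw [biproduct.ι_π_ne _ h]
        exact appS_zero _ _
    rw [Finset.sum_congr rfl fun j _ => h2 j]
    simp
  exact congrArg (fun t => evT t x hx) h1

theorem evT_zero {m : ℤ} {U : (Proj (gr n R)).Opens} (x : ProjectiveSpectrum (gr n R)) (hx : x ∈ U) :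
    evT (0 : Sec (T n R m) U) x hx = 0 := rfl

theorem evT_add {m : ℤ} {U : (Proj (gr n R)).Opens} (s t : Sec (T n R m) U) (x : ProjectiveSpectrum (gr n R))
    (hx : x ∈ U) : evT (s + t) x hx = evT s x hx + evT t x hx := rfl

theorem evT_sum {m : ℤ} {U : (Proj (gr n R)).Opens} {ι : Type} (W : Finset ι) (f : ι → Sec (T n R m) U)
    (x : ProjectiveSpectrum (gr n R)) (hx : x ∈ U) : evT (∑ i ∈ W, f i) x hx = ∑ i ∈ W, evT (f i) x hx := by
  classical
  induction W using Finset.induction_on with
  | empty => rfl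
  | insert a W ha ih => rw [Finset.sum_insert ha, Finset.sum_insert ha, ← ih]; rfl

section gm

variable {m m' m'' : ℤ} {d e : ℕ}

/-- The morphism `⨁_ι O(m) ⟶ ⨁_κ O(m + d)` of a matrix of forms of degree `d`. -/
noncomputable def gm (h : m + d = m') (A : ι → κ → gr n R d) : OO n R ι m ⟶ OO n R κ m' :=
  biproduct.matrix fun i j => mulMap (A i j) h

/-- The morphism `O(m) ⟶ ⨁_κ O(m + d)` of a vector of forms of degree `d`. -/
noncomputable def col (h : m + d = m') (A : κ → gr n R d) : T n R m ⟶ OO n R κ m' :=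
  biproduct.lift fun j => mulMap (A j) h

/-- The morphism `⨁_ι O(m) ⟶ O(m + d)` of a vector of forms of degree `d`. -/
noncomputable def row (h : m + d = m') (A : ι → gr n R d) : OO n R ι m ⟶ T n R m' :=
  biproduct.desc fun i => mulMap (A i) h

variable [Fintype ι]

theorem evT_row (h : m + d = m') (A : ι → gr n R d) {U : (Proj (gr n R)).Opens} (s : Sec (OO n R ι m) U)
    (x : ProjectiveSpectrum (gr n R)) (hx : x ∈ U) :
    evT (appS (row h A) U s) x hx = ∑ i, al x (A i).1 * val s x hx i := by
  have h1 : appS (row h A) U s = ∑ i, appS (mulMap (A i) h) U (appS (pr m i) U s) := by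
    conv_lhs => rw [← sec_total (fun _ : ι => T n R m) U s]
    rw [map_sum]
    refine Finset.sum_congr rfl fun i _ => ?_
    rw [← appS_comp]
    exact congrArg (fun φ => appS φ U _) (biproduct.ι_desc (fun i => mulMap (A i) h) i)
  rw [h1]
  refine (evT_sum Finset.univ _ x hx).trans ?_
  exact Finset.sum_congr rfl fun i _ => evT_mulMap _ _ _ _ _

omit [Fintype ι] in
theorem val_col (h : m + d = m') (A : κ → gr n R d) {U : (Proj (gr n R)).Opens} (s : Sec (T n R m) U)
    (x : ProjectiveSpectrum (gr n R)) (hx : x ∈ U) (j : κ) :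
    val (appS (col h A) U s) x hx j = al x (A j).1 * evT s x hx := by
  have h1 : appS (pr m' j) U (appS (col h A) U s) = appS (mulMap (A j) h) U s :=
    congrArg (fun φ => appS φ U s) (biproduct.lift_π (fun j => mulMap (A j) h) j)
  exact (congrArg (fun t => evT t x hx) h1).trans (evT_mulMap _ _ _ _ _)

theorem val_gm (h : m + d = m') (A : ι → κ → gr n R d) {U : (Proj (gr n R)).Opens} (s : Sec (OO n R ι m) U)
    (x : ProjectiveSpectrum (gr n R)) (hx : x ∈ U) (j : κ) :
    val (appS (gm h A) U s) x hx j = ∑ i, al x (A i j).1 * val s x hx i := by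
  have h1 : appS (pr m' j) U (appS (gm h A) U s) = appS (row h fun i => A i j) U s :=
    congrArg (fun φ => appS φ U s) (biproduct.matrix_π (fun i j => mulMap (A i j) h) j)
  exact (congrArg (fun t => evT t x hx) h1).trans (evT_row _ _ _ _ _)

omit [Fintype ι] in
theorem exists_col (h : m + d = m') (φ : T n R m ⟶ OO n R κ m') : ∃ A : κ → gr n R d, φ = col h A := by
  choose A hA using fun j : κ => exists_mulMap h (φ ≫ pr m' j)
  refine ⟨A, biproduct.hom_ext _ _ fun j => ?_⟩
  rw [col, biproduct.lift_π]
  exact hA j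

omit [Fintype ι] in
theorem exists_row (h : m + d = m') (φ : OO n R ι m ⟶ T n R m') : ∃ A : ι → gr n R d, φ = row h A := by
  choose A hA using fun j : ι => exists_mulMap h (inc m j ≫ φ)
  refine ⟨A, biproduct.hom_ext' _ _ fun j => ?_⟩
  rw [row, biproduct.ι_desc]
  exact hA j

omit [Fintype ι] in
theorem exists_gm (h : m + d = m') (φ : OO n R ι m ⟶ OO n R κ m') : ∃ A : ι → κ → gr n R d, φ = gm h A := by
  choose A hA using fun (i : ι) (j : κ) => exists_mulMap h (inc m i ≫ φ ≫ pr m' j)
  refine ⟨A, biproduct.hom_ext _ _ fun j => biproduct.hom_ext' _ _ fun i => ?_⟩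
  rw [gm, biproduct.matrix_π, biproduct.ι_desc]
  exact hA i j

end gm

section comp

variable {m m' m'' : ℤ} {d e c : ℕ}

theorem gm_comp [Fintype κ] (h : m + d = m') (h' : m' + e = m'') (h'' : m + c = m'') (A : ι → κ → gr n R d)
    (B : κ → ν → gr n R e) (C : ι → ν → gr n R c) (H : ∀ i k, (C i k).1 = ∑ j, (A i j).1 * (B j k).1) :
    gm h A ≫ gm h' B = gm h'' C := by
  have := Fintype.ofFinite ι
  refine hom_ext fun U s => val_ext fun x hx k => ?_
  have h1 : appS (gm h A ≫ gm h' B) U s = appS (gm h' B) U (appS (gm h A) U s) := rfl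
  rw [h1, val_gm, val_gm]
  simp only [val_gm, H, map_sum, map_mul, Finset.sum_mul, Finset.mul_sum]
  rw [Finset.sum_comm]
  exact Finset.sum_congr rfl fun i _ => Finset.sum_congr rfl fun j _ => by ring

theorem gm_row [Fintype κ] (h : m + d = m') (h' : m' + e = m'') (h'' : m + c = m'') (A : ι → κ → gr n R d)
    (B : κ → gr n R e) (C : ι → gr n R c) (H : ∀ i, (C i).1 = ∑ j, (A i j).1 * (B j).1) :
    gm h A ≫ row h' B = row h'' C := by
  have := Fintype.ofFinite ι
  refine hom_ext fun U s => evT_ext fun x hx => ?_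
  have h1 : appS (gm h A ≫ row h' B) U s = appS (row h' B) U (appS (gm h A) U s) := rfl
  rw [h1, evT_row, evT_row]
  simp only [val_gm, H, map_sum, map_mul, Finset.sum_mul, Finset.mul_sum]
  rw [Finset.sum_comm]
  exact Finset.sum_congr rfl fun i _ => Finset.sum_congr rfl fun j _ => by ring

theorem col_gm [Fintype κ] (h : m + d = m') (h' : m' + e = m'') (h'' : m + c = m'') (A : κ → gr n R d)
    (B : κ → ν → gr n R e) (C : ν → gr n R c) (H : ∀ k, (C k).1 = ∑ j, (A j).1 * (B j k).1) :
    col h A ≫ gm h' B = col h'' C := by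
  refine hom_ext fun U s => val_ext fun x hx k => ?_
  have h1 : appS (col h A ≫ gm h' B) U s = appS (gm h' B) U (appS (col h A) U s) := rfl
  rw [h1, val_gm, val_col]
  simp only [val_col, H, map_sum, map_mul, Finset.sum_mul]
  exact Finset.sum_congr rfl fun i _ => by ring

theorem col_row [Fintype κ] (h : m + d = m') (h' : m' + e = m'') (h'' : m + c = m'') (A : κ → gr n R d)
    (B : κ → gr n R e) (C : gr n R c) (H : C.1 = ∑ j, (A j).1 * (B j).1) :
    col h A ≫ row h' B = mulMap C h'' := by
  refine hom_ext fun U s => evT_ext fun x hx => ?_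
  have h1 : appS (col h A ≫ row h' B) U s = appS (row h' B) U (appS (col h A) U s) := rfl
  rw [h1, evT_row]
  refine Eq.trans ?_ (evT_mulMap C h'' s x hx).symm
  simp only [val_col, H, map_sum, map_mul, Finset.sum_mul]
  exact Finset.sum_congr rfl fun i _ => by ring

theorem mulMap_col (h : m + d = m') (h' : m' + e = m'') (h'' : m + c = m'') (A : gr n R d)
    (B : κ → gr n R e) (C : κ → gr n R c) (H : ∀ k, (C k).1 = A.1 * (B k).1) :
    mulMap A h ≫ col h' B = col h'' C := by
  refine hom_ext fun U s => val_ext fun x hx k => ?_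
  have h1 : appS (mulMap A h ≫ col h' B) U s = appS (col h' B) U (appS (mulMap A h) U s) := rfl
  have h2 : evT (appS (mulMap A h) U s) x hx = al x A.1 * evT s x hx := evT_mulMap A h s x hx
  rw [h1, val_col, val_col, H, map_mul, h2]
  ring

theorem row_mulMap (h : m + d = m') (h' : m' + e = m'') (h'' : m + c = m'') (A : ι → gr n R d)
    (B : gr n R e) (C : ι → gr n R c) (H : ∀ k, (C k).1 = (A k).1 * B.1) :
    row h A ≫ mulMap B h' = row h'' C := by
  have := Fintype.ofFinite ι
  refine hom_ext fun U s => evT_ext fun x hx => ?_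
  have h1 : appS (row h A ≫ mulMap B h') U s = appS (mulMap B h') U (appS (row h A) U s) := rfl
  have h2 : ∀ t : Sec (T n R m') U, evT (appS (mulMap B h') U t) x hx = al x B.1 * evT t x hx :=
    fun t => evT_mulMap B h' t x hx
  rw [h1, h2, evT_row, evT_row, Finset.mul_sum]
  refine Finset.sum_congr rfl fun i _ => ?_
  rw [H, map_mul]
  ring

theorem gm_id (h : m + (0 : ℕ) = m) (A : ι → ι → gr n R 0) [DecidableEq ι]
    (H : ∀ i j, (A i j).1 = if i = j then 1 else 0) : gm h A = 𝟙 _ := by
  have := Fintype.ofFinite ι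
  refine hom_ext fun U s => val_ext fun x hx k => ?_
  rw [val_gm, appS_id]
  have h1 : ∀ i, al x (A i k).1 * val s x hx i = if i = k then val s x hx k else 0 := by
    intro i
    rw [H]
    split_ifs with h
    · rw [h, map_one, one_mul]
    · rw [map_zero, zero_mul]
  rw [Finset.sum_congr rfl fun i _ => h1 i]
  simp

theorem gm_zero (h : m + d = m') (A : ι → κ → gr n R d) (H : ∀ i j, (A i j).1 = 0) : gm h A = 0 := by
  have := Fintype.ofFinite ι
  refine hom_ext fun U s => val_ext fun x hx k => ?_
  rw [val_gm, appS_zero]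
  refine (Finset.sum_eq_zero fun i _ => ?_).trans ?_
  · rw [H, map_zero, zero_mul]
  · exact (congrArg (fun t => evT t x hx) (map_zero (appS (pr m' k) U))).symm

theorem gm_add (h : m + d = m') (A B C : ι → κ → gr n R d) (H : ∀ i j, (C i j).1 = (A i j).1 + (B i j).1) :
    gm h A + gm h B = gm h C := by
  have := Fintype.ofFinite ι
  refine hom_ext fun U s => val_ext fun x hx k => ?_
  rw [appS_add, val_add, Pi.add_apply, val_gm, val_gm, val_gm, ← Finset.sum_add_distrib]
  refine Finset.sum_congr rfl fun i _ => ?_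
  rw [H, map_add]
  ring

end comp

/-! ### Constants -/

/-- The constant form. -/
noncomputable def cst (c : R) : gr n R 0 := ⟨MvPolynomial.C c, MvPolynomial.isHomogeneous_C _ _⟩

@[simp] theorem cst_val (c : R) : (cst (n := n) c).1 = MvPolynomial.C c := rfl

theorem exists_cst (a : gr n R 0) : ∃ c : R, a = cst c := by
  refine ⟨MvPolynomial.coeff 0 a.1, Subtype.ext ?_⟩
  have h : (a.1).totalDegree = 0 := Nat.le_zero.mp (MvPolynomial.IsHomogeneous.totalDegree_le a.2)
  exact MvPolynomial.totalDegree_eq_zero_iff_eq_C.mp h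

end K699.GMat
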