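import Groth.Agent.Gaga.H883.Serre
import Groth.Agent.Fga.HShift
import Groth.Agent.VarietyB.TwistMul
import Groth.Agent.S0843
import Groth.Agent.Smoothlim.ModKer

/-!
# `H^0` of twists of an extension of `M` by `O` on `P^n_k`, and monotonicity of `H^0(J(d))` for `J ⊆ O`

* `h0_O_iff`: `H^0(P^n_k, O(d)) = 0 ↔ d < 0`.
* `mid_iff`: for `0 → O → E → M → 0` on `P^n_k`, `n ≥ 2`: `H^0(E(d)) = 0 ↔ d < 0 ∧ H^0(M(d)) = 0`.
* `mono_mulMap`: multiplication by a nonzero homogeneous polynomial is a monomorphism `O(m) → O(m+i)`.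
* `sub_le`: for `J ⊆ O`, `H^0(J(e)) = 0` and `d ≤ e` imply `H^0(J(d)) = 0`.
-/

set_option autoImplicit false

universe u

open CategoryTheory CategoryTheory.Limits AlgebraicGeometry Opposite TopologicalSpace

namespace K699.SerreSeq

open Groth.Agent Groth.Agent.Sga67.SerreVB

variable (n : ℕ) (k : Type u) [Field k]

/-- `O(d)`. -/
noncomputable abbrev O (d : ℤ) : (CohB1.ProjSpace n k).Modules := Twist.twistProjSpace n k d

theorem hh_iso {X : Scheme.{u}} {M N : X.Modules} (e : M ≅ N) (q : ℕ) :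
    Subsingleton (Coh.HH X M q) ↔ Subsingleton (Coh.HH X N q) :=
  ⟨Gaga.H883.Serre.HH_congr e q, Gaga.H883.Serre.HH_congr e.symm q⟩

theorem h0_O_iff (hn : 1 ≤ n) (d : ℤ) : Subsingleton (Coh.HH (CohB1.ProjSpace n k) (O n k d) 0) ↔ d < 0 := by
  constructor
  · intro h
    by_contra hd
    obtain ⟨m, rfl⟩ := Int.eq_ofNat_of_zero_le (not_lt.mp hd)
    obtain ⟨e⟩ := Groth.Agent.S0843.result k n m
    have h1 : Subsingleton ↥(MvPolynomial.homogeneousSubmodule (Fin (n + 1)) k m) :=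
      e.symm.toEquiv.subsingleton
    have h2 : (MvPolynomial.X 0 ^ m : MvPolynomial (Fin (n + 1)) k) ∈ MvPolynomial.homogeneousSubmodule (Fin (n + 1)) k m := by
      have := (MvPolynomial.isHomogeneous_X k (0 : Fin (n + 1))).pow m
      simpa using this
    have h3 := Subsingleton.elim (⟨_, h2⟩ : ↥(MvPolynomial.homogeneousSubmodule (Fin (n + 1)) k m)) 0
    have h4 : (MvPolynomial.X 0 ^ m : MvPolynomial (Fin (n + 1)) k) = 0 := congrArg Subtype.val h3
    exact pow_ne_zero m (MvPolynomial.X_ne_zero 0) h4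
  · intro hd
    exact Groth.Agent.S0844.result k n d 0 (by omega) (by omega)

theorem h0_injective {X : Scheme.{u}} {M N : X.Modules} (f : M ⟶ N) [Mono f]
    (h : Subsingleton (Coh.HH X N 0)) : Subsingleton (Coh.HH X M 0) := by
  have h1 : Subsingleton Γ(N, ⊤) := (Ega3B.SectExact.secEquiv N).symm.toEquiv.subsingleton
  have h2 : Function.Injective (f.app ⊤) := Smoothlim.ModKer.app_injective_of_mono f ⊤
  have h5 : Subsingleton Γ(M, ⊤) := h2.subsingleton
  exact (Ega3B.SectExact.secEquiv M).toEquiv.subsingleton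

/-- `H^0(E(d)) = 0 ↔ d < 0 ∧ H^0(M(d)) = 0` for `0 → O → E → M → 0`. -/
theorem mid_iff (hn : 2 ≤ n) (S : ShortComplex (CohB1.ProjSpace n k).Modules) (hS : S.ShortExact)
    (h₁ : Nonempty (S.X₁ ≅ Coh.structureModule (CohB1.ProjSpace n k))) (d : ℤ) :
    Subsingleton (Coh.HH (CohB1.ProjSpace n k) (CohB1.tensorMod S.X₂ (O n k d)) 0) ↔
      d < 0 ∧ Subsingleton (Coh.HH (CohB1.ProjSpace n k) (CohB1.tensorMod S.X₃ (O n k d)) 0) := by
  obtain ⟨e₁⟩ := h₁
  have hT := Gaga.H883.Serre.shortExact_tw n k d hS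
  obtain ⟨e0⟩ := Gaga.H883.Serre.O_zero n k
  obtain ⟨em⟩ := Gaga.H883.Serre.O_mul n k 0 d
  have e : CohB1.tensorMod S.X₁ (O n k d) ≅ O n k d :=
    (tw n k d).mapIso e₁ ≪≫ (tw n k d).mapIso e0.symm ≪≫ em ≪≫ eqToIso (by rw [zero_add])
  constructor
  · intro h
    have hd : d < 0 := by
      rw [← h0_O_iff n k (by omega) d, ← hh_iso e 0]
      exact @h0_injective _ _ _ _ hT.mono_f h
    refine ⟨hd, ?_⟩
    refine Fga.HShift.subsingleton₃ hT 0 h ?_
    refine (hh_iso e 1).mpr ?_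
    exact Groth.Agent.S0844.result k n d 1 (by omega) (by omega)
  · rintro ⟨hd, h3⟩
    refine Fga.HShift.subsingleton₂ hT 0 ?_ h3
    exact (hh_iso e 0).mpr ((h0_O_iff n k (by omega) d).mpr hd)

/-- Multiplication by a nonzero form is mono. -/
theorem mono_mulMap {i : ℕ} (a : CohB1.polyGrading n k i) (ha : a.1 ≠ 0) {m m' : ℤ} (h : m + i = m') :
    Mono (VarietyB.TwistMul.mulMap (𝒜 := CohB1.polyGrading n k) a h) := by
  rw [Preadditive.mono_iff_cancel_zero]
  intro K g hg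
  refine VarietyB.TwistMul.hom_ext_apply _ _ fun U s => ?_
  have h1 : (VarietyB.TwistMul.mulMap (𝒜 := CohB1.polyGrading n k) a h).app U (g.app U s) = 0 := by
    have := congrArg (fun φ => φ.app U s) hg
    exact this
  change g.app U s = 0
  generalize g.app U s = t at h1 ⊢
  have h2 : ∀ x : U, algebraMap _ (Twist.Loc (CohB1.polyGrading n k) x.1) a.1 *
      ((t : Twist.sectN (𝒜 := CohB1.polyGrading n k) m (op U)).1 x).1 = 0 := fun x =>
    congrArg (fun t : Twist.sectN (𝒜 := CohB1.polyGrading n k) m' (op U) => (t.1 x).1) h1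
  apply Subtype.ext
  funext x
  apply Subtype.ext
  have hprime : (x.1 : ProjectiveSpectrum (CohB1.polyGrading n k)).asHomogeneousIdeal.toIdeal.IsPrime :=
    (x.1 : ProjectiveSpectrum (CohB1.polyGrading n k)).isPrime
  have hdom : IsDomain (Twist.Loc (CohB1.polyGrading n k) x.1) :=
    IsLocalization.isDomain_localization (M := (x.1 : ProjectiveSpectrum (CohB1.polyGrading n k)).asHomogeneousIdeal.toIdeal.primeCompl)
      (Ideal.primeCompl_le_nonZeroDivisors _)
  have h3 := (mul_eq_zero.mp (h2 x)).resolve_left ?_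
  · exact h3
  · have hinj : Function.Injective (algebraMap (MvPolynomial (Fin (n + 1)) k)
        (Twist.Loc (CohB1.polyGrading n k) x.1)) :=
      IsLocalization.injective (M := (x.1 : ProjectiveSpectrum (CohB1.polyGrading n k)).asHomogeneousIdeal.toIdeal.primeCompl) _
        (Ideal.primeCompl_le_nonZeroDivisors _)
    exact fun h0 => ha (hinj (h0.trans (map_zero _).symm))

theorem mapT_id_eq {X : Scheme.{u}} {N N' : X.Modules} (m : N ⟶ N') :
    Ega2.Tens.mapT (𝟙 (Coh.structureModule X)) m =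
      (Ega2.Tens.lunit N).hom ≫ m ≫ (Ega2.Tens.lunit N').inv := by
  rw [← Iso.inv_comp_eq]
  refine VarietyB.TwistMul.hom_ext_apply _ _ fun U s => ?_
  change (Ega2.Tens.mapT (𝟙 (Coh.structureModule X)) m).app U ((Ega2.Tens.lunit N).inv.app U s) =
    (Ega2.Tens.lunit N').inv.app U (m.app U s)
  rw [Ega2.Tens.lunit_inv_app, Ega2.Tens.lunit_inv_app, Ega2.Tens.mapT_tmul]
  rfl

theorem sub_succ (J : (CohB1.ProjSpace n k).Modules) (ι : J ⟶ Coh.structureModule (CohB1.ProjSpace n k))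
    [Mono ι] (d : ℤ)
    (h : Subsingleton (Coh.HH (CohB1.ProjSpace n k) (CohB1.tensorMod J (O n k (d + 1))) 0)) :
    Subsingleton (Coh.HH (CohB1.ProjSpace n k) (CohB1.tensorMod J (O n k d)) 0) := by
  let x : CohB1.polyGrading n k 1 := ⟨MvPolynomial.X 0, MvPolynomial.isHomogeneous_X k 0⟩
  have hx : x.1 ≠ 0 := MvPolynomial.X_ne_zero 0
  let m : O n k d ⟶ O n k (d + 1) := VarietyB.TwistMul.mulMap (𝒜 := CohB1.polyGrading n k) x (by simp)
  have hm : Mono m := mono_mulMap n k x hx _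
  let φ : CohB1.tensorMod J (O n k d) ⟶ CohB1.tensorMod J (O n k (d + 1)) := Ega2.Tens.mapT (𝟙 J) m
  have hφ : Mono φ := by
    let U := Coh.structureModule (CohB1.ProjSpace n k)
    have e1 : φ ≫ Ega2.Tens.mapT ι (𝟙 (O n k (d + 1))) = Ega2.Tens.mapT ι (𝟙 (O n k d)) ≫ Ega2.Tens.mapT (𝟙 U) m := by
      rw [← Ega2.Tens.mapT_comp, ← Ega2.Tens.mapT_comp]
      simp only [Category.id_comp, Category.comp_id, U]
    have h1 : Mono (Ega2.Tens.mapT ι (𝟙 (O n k d))) := by
      have h4 := Gaga.H883.Serre.shortExact_tw n k d (S := ShortComplex.mk ι (cokernel.π ι) (cokernel.condition ι))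
        { exact := ShortComplex.exact_cokernel ι }
      exact h4.mono_f
    have h2 : Mono (Ega2.Tens.mapT (𝟙 U) m) := by
      rw [mapT_id_eq m]
      exact mono_comp _ _
    have h3 : Mono (φ ≫ Ega2.Tens.mapT ι (𝟙 (O n k (d + 1)))) := by
      rw [e1]
      exact mono_comp _ _
    exact mono_of_mono φ (Ega2.Tens.mapT ι (𝟙 (O n k (d + 1))))
  exact h0_injective φ h

theorem sub_le (J : (CohB1.ProjSpace n k).Modules) (ι : J ⟶ Coh.structureModule (CohB1.ProjSpace n k))
    [Mono ι] {d e : ℤ} (hde : d ≤ e)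
    (h : Subsingleton (Coh.HH (CohB1.ProjSpace n k) (CohB1.tensorMod J (O n k e)) 0)) :
    Subsingleton (Coh.HH (CohB1.ProjSpace n k) (CohB1.tensorMod J (O n k d)) 0) := by
  obtain ⟨m, rfl⟩ := Int.le.dest hde
  induction m generalizing d with
  | zero => simpa using h
  | succ m ih =>
    refine sub_succ n k J ι d (ih (by omega) ?_)
    have h1 : d + 1 + (m : ℤ) = d + ((m + 1 : ℕ) : ℤ) := by push_cast; ring
    rw [h1]
    exact h

end K699.SerreSeq
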