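import Groth.Agent.VBPn.K699.KerSplit
import Groth.Agent.Krr.H492.EulerSeq
import Groth.Agent.Krr.H496.PullK0
import Groth.Agent.Vancyc.H878.RelOmega
import Groth.Agent.CohqB.ProjBC
import Groth.Agent.Sga67.TwistPull
import Groth.Agent.Lefpen.H21.PicTwist
import Groth.Agent.Fga.UnitRestrict
import Groth.Agent.Sga2.LefLine

/-!
# The Euler sequence on `P^n_R`, and its restriction to linear subspaces

* `exists_row_pullback`: for `h : P^m_R ⟶ P^n_ℤ` with `h^* O(-1) ≅ O(-1)`, `h^* Ω` is the kernel of an epimorphism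
  `⨁ O(-1) ⟶ O(0)` given by linear forms.
* `omega_iso_kernel`: `Ω ≅ ker ((X_0, …, X_n) : ⨁ O(-1) ⟶ O(0))` on `P^n_k`, `k` a field.
* `pullback_omega_iso`: `i^* Ω_{P^n} ≅ Ω_{P^m} ⊞ ⨁ O(-1)` for `i : P^m ⟶ P^n` with `i^* O(1) ≅ O(1)`.
-/

set_option autoImplicit false

universe u

open CategoryTheory CategoryTheory.Limits AlgebraicGeometry Opposite TopologicalSpace

namespace K699.Euler

open Groth.Agent Groth.Agent.Divis.ProjPic Groth.Agent.VarietyB.TwistMul K699.TwHom Groth.Agent.Sga67.Sec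
open K699.GMat K699.LinForm K699.KerSplit

attribute [local instance] Abelian.hasFiniteBiproducts

variable {m n : ℕ} {R : Type u} [CommRing R]

theorem hneg : (-1 : ℤ) + (1 : ℕ) = 0 := by simp

/-- The pullback of the Euler sequence over `ℤ`. -/
theorem exists_row_pullback (h : Proj (gr m R) ⟶ Krr.H492.EulerMap.P.{u} n)
    (e : (Scheme.Modules.pullback h).obj (Krr.H492.EulerMap.L.{u} n) ≅ T m R (-1)) :
    ∃ a : Fin (n + 1) → Fin (m + 1) → R, Epi (row hneg fun i => lf (a i)) ∧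
      Nonempty ((Scheme.Modules.pullback h).obj (Omega.sheaf (Krr.H492.EulerMap.f.{u} n)) ≅
        kernel (row hneg fun i => lf (a i))) := by
  have hS := Krr.H496.PullK0.shortExact_pullback_of_isFinLocFree h (Krr.H492.EulerSeq.shortExact.{u} n)
    (Sga2.LefLine.isFinLocFree_of_isInvertible (Ega3B.ProjTwist.isInvertible_twistProjSpace n (ULift.{u} ℤ) 0))
  have hc : ∀ (S : ShortComplex (Proj (gr m R)).Modules) (hS : S.ShortExact)
      (e2 : S.X₂ ≅ OO m R (Fin (n + 1)) (-1)) (e3 : S.X₃ ≅ T m R 0),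
      ∃ a : Fin (n + 1) → Fin (m + 1) → R, Epi (row hneg fun i => lf (a i)) ∧
      Nonempty (S.X₁ ≅ kernel (row hneg fun i => lf (a i))) := by
    intro S hS e2 e3
    obtain ⟨A, hA⟩ := exists_row hneg (e2.inv ≫ S.g ≫ e3.hom)
    choose a ha using fun i => exists_lf (A i)
    have hA' : e2.inv ≫ S.g ≫ e3.hom = row hneg fun i => lf (a i) := by
      rw [hA]
      congr 1
      exact funext ha
    have := hS.epi_g
    refine ⟨a, ?_, ⟨?_⟩⟩
    · rw [← hA']
      infer_instance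
    · rw [← hA']
      exact (IsLimit.conePointUniqueUpToIso hS.fIsKernel (kernelIsKernel S.g)) ≪≫
        (kernel.mapIso S.g (e2.inv ≫ S.g ≫ e3.hom) e2 e3 (by simp))
  refine hc _ hS ?_ ?_
  · let F := Scheme.Modules.pullback h
    have : F.Additive := inferInstance
    exact F.mapBiproduct (fun _ : Fin (n + 1) => Krr.H492.EulerMap.L.{u} n) ≪≫ biproduct.mapIso fun _ => e
  · exact (Scheme.Modules.pullback h).mapIso (Ega2.TwistInv.nonempty_unit_iso _).some.symm ≪≫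
      Fga.UnitRestrict.pullbackUnitIso h ≪≫ (Ega2.TwistInv.nonempty_unit_iso _).some

/-- The ring map from the integers. -/
noncomputable def zmap (R : Type u) [CommRing R] : Krr.H492.EulerMap.Z.{u} →+* R :=
  (Int.castRingHom R).comp (ULift.ringEquiv.{0, u} (R := ℤ)).toRingHom

/-- The morphism `P^n_R ⟶ P^n_ℤ`. -/
noncomputable def gz (n : ℕ) (R : Type u) [CommRing R] : Proj (gr n R) ⟶ Krr.H492.EulerMap.P.{u} n :=
  CohqB.ProjBC.pmap (zmap R) n

/-- `g^* Ω ≅ Ω`. -/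
noncomputable def omegaIso (n : ℕ) (R : Type u) [CommRing R] :
    (Scheme.Modules.pullback (gz n R)).obj (Omega.sheaf (Krr.H492.EulerMap.f.{u} n)) ≅
      Omega.sheaf (CohB1.ProjSpace.toSpec n R) :=
  Vancyc.H878.RelOmega.omegaBC (CohqB.ProjBC.isPullback_pmap (zmap R) n)

/-- `g^* O(d) ≅ O(d)`. -/
noncomputable def twIso (n : ℕ) (R : Type u) [CommRing R] (d : ℤ) :
    (Scheme.Modules.pullback (gz n R)).obj (Twist.twist (gr n Krr.H492.EulerMap.Z.{u}) d) ≅ T n R d :=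
  @asIso _ _ _ _ (Sga67.TwistPull.cmp (CohqB.ProjBC.gmap (zmap R) n) (CohqB.ProjBC.irrelevant_le (zmap R) n) d)
    (Sga67.TwistPull.isIso_cmp _ _ (Ega3B.ProjTwist.coveredByOne n _) d)

/-- `i^* O(1) ≅ O(1)` implies `i^* O(d) ≅ O(d)`. -/
theorem nonempty_pull_twist (i : Proj (gr m R) ⟶ Proj (gr n R))
    (hO : Nonempty ((Scheme.Modules.pullback i).obj (T n R 1) ≅ T m R 1)) (d : ℤ) :
    Nonempty ((Scheme.Modules.pullback i).obj (T n R d) ≅ T m R d) := by
  have h1 := Lefpen.H21.PicTwist.mk_pullback_twist (r := n) (k := R) (X := Proj (gr m R)) i d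
  have h2 := Lefpen.H21.PicTwist.mk_pullback_twist (r := n) (k := R) (X := Proj (gr m R)) i 1
  obtain ⟨e⟩ := hO
  have h3 : Lefpen.H21.PicTwist.hyp (r := n) (k := R) (X := Proj (gr m R)) i = Lefpen.H21.PicTwist.o m R 1 := by
    rw [zpow_one] at h2
    rw [← h2]
    exact Grpsch.PicGrp.mk_congr e
  rw [h3] at h1
  have h4 := h1.trans (Lefpen.H21.PicTwist.o_eq_zpow (r := m) (k := R) d).symm
  exact (Grpsch.PicGrp.mk_eq_iff _ _).mp h4

/-- The Euler sequence restricted along `i : P^m_R ⟶ P^n_R` with `i^* O(1) ≅ O(1)`. -/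
theorem exists_row_omega (i : Proj (gr m R) ⟶ Proj (gr n R))
    (hO : Nonempty ((Scheme.Modules.pullback i).obj (T n R 1) ≅ T m R 1)) :
    ∃ a : Fin (n + 1) → Fin (m + 1) → R, Epi (row hneg fun i => lf (a i)) ∧
      Nonempty ((Scheme.Modules.pullback i).obj (Omega.sheaf (CohB1.ProjSpace.toSpec n R)) ≅
        kernel (row hneg fun i => lf (a i))) := by
  obtain ⟨e⟩ := nonempty_pull_twist i hO (-1)
  obtain ⟨a, ha, ⟨e'⟩⟩ := exists_row_pullback (i ≫ gz n R)
    ((Scheme.Modules.pullbackComp i (gz n R)).symm.app _ ≪≫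
      (Scheme.Modules.pullback i).mapIso (twIso n R (-1)) ≪≫ e)
  exact ⟨a, ha, ⟨(Scheme.Modules.pullback i).mapIso (omegaIso n R).symm ≪≫
    (Scheme.Modules.pullbackComp i (gz n R)).app _ ≪≫ e'⟩⟩

section Field

variable {k : Type u} [Field k]

/-- **The Euler sequence**: `Ω ≅ ker ((X_0, …, X_n) : ⨁ O(-1) ⟶ O(0))`. -/
theorem nonempty_omega_iso (n : ℕ) (k : Type u) [Field k] :
    Nonempty (Omega.sheaf (CohB1.ProjSpace.toSpec n k) ≅ kernel (row hneg (xf (n := n) (R := k)))) := by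
  obtain ⟨a, ha, ⟨e⟩⟩ := exists_row_pullback (gz n k) (twIso n k (-1))
  obtain ⟨e'⟩ := nonempty_kernel_row_iso (κ := Fin 0) hneg a (by simp)
  have h0 : IsZero (OO n k (Fin 0) (-1)) := by
    rw [IsZero.iff_id_eq_zero]
    exact biproduct.hom_ext _ _ fun j => j.elim0
  exact ⟨(omegaIso n k).symm ≪≫ e ≪≫ e' ≪≫
    (isoBiprodZero h0).symm⟩

theorem nonempty_pullback_omega_iso (i : Proj (gr m k) ⟶ Proj (gr n k))
    (hO : Nonempty ((Scheme.Modules.pullback i).obj (T n k 1) ≅ T m k 1)) (κ : Type) [Finite κ]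
    (hc : n = m + Nat.card κ) :
    Nonempty ((Scheme.Modules.pullback i).obj (Omega.sheaf (CohB1.ProjSpace.toSpec n k)) ≅
        Omega.sheaf (CohB1.ProjSpace.toSpec m k) ⊞ OO m k κ (-1)) := by
  obtain ⟨a, ha, ⟨e⟩⟩ := exists_row_omega i hO
  obtain ⟨e'⟩ := nonempty_kernel_row_iso (κ := κ) hneg a (by simp; omega)
  obtain ⟨e''⟩ := nonempty_omega_iso m k
  exact ⟨e ≪≫ e' ≪≫ biprod.mapIso e''.symm (Iso.refl _)⟩

end Field

end K699.Euler
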