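import Groth.Agent.VBPn.K699.LinForm
import Groth.Agent.CohqB.ProjBC

/-!
# The Koszul sequence `0 ⟶ O(-2) ⟶ O(-1)² ⟶ O ⟶ 0` on `P^1_R`
-/

set_option autoImplicit false

universe u

open CategoryTheory CategoryTheory.Limits AlgebraicGeometry Opposite TopologicalSpace

namespace K699.KoszulP1

open Groth.Agent Groth.Agent.Divis.ProjPic Groth.Agent.VarietyB.TwistMul K699.TwHom Groth.Agent.Sga67.Sec
open K699.GMat K699.LinForm

attribute [local instance] Abelian.hasFiniteBiproducts

variable {R : Type u} [CommRing R] {n : ℕ}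

/-- Some coordinate does not vanish at a point. -/
theorem exists_xf_notMem (x : ProjectiveSpectrum (gr n R)) :
    ∃ a : Fin (n + 1), (xf (R := R) a).1 ∉ x.asHomogeneousIdeal := by
  by_contra hc
  push Not at hc
  apply x.not_irrelevant_le
  refine (HomogeneousIdeal.irrelevant_le _).mpr fun i hi y hy => ?_
  have h1 := CohqB.ProjBC.mem_span_X_of_pos n hi y hy
  have h2 : Ideal.span (Set.range (MvPolynomial.X : Fin (n + 1) → MvPolynomial (Fin (n + 1)) R)) ≤
      x.asHomogeneousIdeal.toIdeal := by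
    refine Ideal.span_le.mpr ?_
    rintro _ ⟨j, rfl⟩
    exact hc j
  exact h2 h1

/-- The Koszul coefficients. -/
noncomputable def kz : Fin 2 → gr 1 R 1 := ![-xf 1, xf 0]

/-- The Koszul complex. -/
noncomputable def seq {m m' m'' : ℤ} (h : m + (1 : ℕ) = m') (h' : m' + (1 : ℕ) = m'') :
    ShortComplex (Proj (gr 1 R)).Modules :=
  ShortComplex.mk (col h (kz (R := R))) (row h' (xf (n := 1) (R := R))) (by
    rw [col_row h h' (show m + (2 : ℕ) = m'' by omega) _ _ 0, mulMap_zero]
    simp [kz]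
    ring)

theorem exact_aux {m m' m'' : ℤ} (h : m + (1 : ℕ) = m') (h' : m' + (1 : ℕ) = m'') (U : (Proj (gr 1 R)).Opens)
    (s : Sec (OO 1 R (Fin 2) m') U) (hs : appS (row h' (xf (n := 1) (R := R))) U s = 0)
    (x : Proj (gr 1 R)) (hx : x ∈ U) : ∃ (V : (Proj (gr 1 R)).Opens) (hV : V ≤ U), x ∈ V ∧
      ∃ t : Sec (T 1 R m) V, appS (col h (kz (R := R))) V t = res _ hV s := by
  obtain ⟨a, ha⟩ := exists_xf_notMem (n := 1) (R := R) x
  let V := U ⊓ Proj.basicOpen (gr 1 R) (xf a).1
  have hV : V ≤ Proj.basicOpen (gr 1 R) (xf a).1 := inf_le_right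
  refine ⟨V, inf_le_left, ⟨hx, ha⟩, ?_⟩
  have hrel : ∀ (y : ProjectiveSpectrum (gr 1 R)) (hy : y ∈ V),
      al y (MvPolynomial.X 0) * val (ι := Fin 2) s y hy.1 0 + al y (MvPolynomial.X 1) * val (ι := Fin 2) s y hy.1 1 = 0 := by
    intro y hy
    have h1 := evT_row h' (xf (n := 1) (R := R)) s y hy.1
    rw [Fin.sum_univ_two] at h1
    refine h1.symm.trans ?_
    exact congrArg (fun t => evT t y hy.1) hs
  have hu : ∀ (y : ProjectiveSpectrum (gr 1 R)) (hy : y ∈ V), IsUnit (al y (xf a).1) := fun y hy =>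
    IsLocalization.map_units (M := y.asHomogeneousIdeal.toIdeal.primeCompl) (Twist.Loc (gr 1 R) y) ⟨(xf a).1, hy.2⟩
  fin_cases a
  · obtain ⟨t, ht⟩ := (mulMap_app_bijective (xf (n := 1) (R := R) 0) h V hV).2
      (res _ (inf_le_left : V ≤ U) (appS (pr m' (1 : Fin 2)) U s))
    have ht' : ∀ (y : ProjectiveSpectrum (gr 1 R)) (hy : y ∈ V),
        al y (MvPolynomial.X 0) * evT t y hy = val (ι := Fin 2) s y hy.1 1 := fun y hy =>
      congrArg (fun t => evT t y hy) ht
    refine ⟨t, val_ext fun y hy i => ?_⟩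
    refine (val_col h (kz (R := R)) t y hy i).trans ?_
    rw [val_res]
    fin_cases i
    · change al y (-MvPolynomial.X 1) * _ = _
      apply (hu y hy).mul_left_cancel
      change al y (MvPolynomial.X 0) * _ = al y (MvPolynomial.X 0) * val (ι := Fin 2) s y hy.1 0
      rw [eq_neg_of_add_eq_zero_left (hrel y hy), ← ht' y hy, map_neg]
      ring
    · change al y (MvPolynomial.X 0) * _ = _
      exact ht' y hy
  · obtain ⟨t, ht⟩ := (mulMap_app_bijective (xf (n := 1) (R := R) 1) h V hV).2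
      (res _ (inf_le_left : V ≤ U) (-appS (pr m' (0 : Fin 2)) U s))
    have ht' : ∀ (y : ProjectiveSpectrum (gr 1 R)) (hy : y ∈ V),
        al y (MvPolynomial.X 1) * evT t y hy = -val (ι := Fin 2) s y hy.1 0 := fun y hy =>
      congrArg (fun t => evT t y hy) ht
    refine ⟨t, val_ext fun y hy i => ?_⟩
    refine (val_col h (kz (R := R)) t y hy i).trans ?_
    rw [val_res]
    fin_cases i
    · change al y (-MvPolynomial.X 1) * _ = val (ι := Fin 2) s y hy.1 0
      rw [map_neg, neg_mul, ht' y hy, neg_neg]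
    · change al y (MvPolynomial.X 0) * _ = _
      apply (hu y hy).mul_left_cancel
      change al y (MvPolynomial.X 1) * _ = al y (MvPolynomial.X 1) * val (ι := Fin 2) s y hy.1 1
      rw [eq_neg_of_add_eq_zero_right (hrel y hy), ← mul_assoc, mul_comm (al y (MvPolynomial.X 1)), mul_assoc,
        ht' y hy]
      ring

theorem shortExact {m m' m'' : ℤ} (h : m + (1 : ℕ) = m') (h' : m' + (1 : ℕ) = m'') :
    (seq (R := R) h h').ShortExact where
  exact := exact_of_locally (exact_aux h h')
  mono_f := by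
    refine mono_of_locally_injective _ fun x U hx => ?_
    obtain ⟨a, ha⟩ := exists_xf_notMem (n := 1) (R := R) x
    let V := U ⊓ Proj.basicOpen (gr 1 R) (xf a).1
    refine ⟨V, inf_le_left, ⟨hx, ha⟩, fun s hs => evT_ext fun y hy => ?_⟩
    have hu : IsUnit (al y (xf a).1) :=
      IsLocalization.map_units (M := y.asHomogeneousIdeal.toIdeal.primeCompl) (Twist.Loc (gr 1 R) y) ⟨(xf a).1, hy.2⟩
    have h1 : ∀ i, al y (kz (R := R) i).1 * evT s y hy = 0 := fun i =>
      (val_col h (kz (R := R)) s y hy i).symm.trans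
        ((congrArg (fun t => val (ι := Fin 2) t y hy i) hs).trans
          (congrArg (fun t => evT t y hy) (map_zero (appS (pr (R := R) (n := 1) m' i) V))))
    change evT s y hy = 0
    fin_cases a
    · exact hu.mul_left_cancel ((h1 1).trans (mul_zero _).symm)
    · have h2 := h1 0
      change al y (-MvPolynomial.X 1) * _ = _ at h2
      rw [map_neg, neg_mul, neg_eq_zero] at h2
      exact hu.mul_left_cancel (h2.trans (mul_zero _).symm)
  epi_g := by
    refine epi_of_locally_surjective _ fun U s x hx => ?_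
    obtain ⟨a, ha⟩ := exists_xf_notMem (n := 1) (R := R) x
    let V := U ⊓ Proj.basicOpen (gr 1 R) (xf a).1
    have hV : V ≤ Proj.basicOpen (gr 1 R) (xf a).1 := inf_le_right
    refine ⟨V, inf_le_left, ⟨hx, ha⟩, ?_⟩
    obtain ⟨t, ht⟩ := (mulMap_app_bijective (xf (n := 1) (R := R) a) h' V hV).2 (res _ (inf_le_left : V ≤ U) s)
    refine ⟨appS (inc m' a) V t, ?_⟩
    have h1 : appS (row h' (xf (n := 1) (R := R))) V (appS (inc m' a) V t) = appS (mulMap (xf a) h') V t :=
      congrArg (fun φ => appS φ V t) (biproduct.ι_desc (fun i => mulMap (xf (R := R) i) h') a)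
    exact h1.trans ht

end K699.KoszulP1
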