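import Groth.Agent.VBPn.K699.GMat
import Mathlib.RingTheory.GradedAlgebra.Radical

/-!
# Linear forms on `P^n_k`

* `lf a`: the linear form with coefficient vector `a`; `exists_lf`.
* `pt v`: the `k`-rational point of `v ≠ 0`.
* `surj_of_epi`: if `row ℓ : ⨁_ι O(m) ⟶ O(m + 1)` is an epimorphism then the `ℓ i` span the linear forms.
* `exists_kernel_iso`: `ker (row ℓ) ≅ ker (row X) ⊞ ⨁_κ O(m)`.
-/

set_option autoImplicit false

universe u

open CategoryTheory CategoryTheory.Limits AlgebraicGeometry Opposite TopologicalSpace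

namespace K699.LinForm

open Groth.Agent Groth.Agent.Divis.ProjPic Groth.Agent.VarietyB.TwistMul K699.TwHom Groth.Agent.Sga67.Sec
open K699.GMat

attribute [local instance] Abelian.hasFiniteBiproducts

section Ring

variable {n : ℕ} {R : Type u} [CommRing R]

/-- The linear form with given coefficients. -/
noncomputable def lf (a : Fin (n + 1) → R) : gr n R 1 :=
  ⟨∑ j, MvPolynomial.C (a j) * MvPolynomial.X j, Submodule.sum_mem _ fun j _ => by
    simpa using (MvPolynomial.isHomogeneous_C _ (a j)).mul (MvPolynomial.isHomogeneous_X R j)⟩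

@[simp] theorem lf_val (a : Fin (n + 1) → R) :
    (lf a).1 = ∑ j, MvPolynomial.C (a j) * MvPolynomial.X j := rfl

theorem exists_lf (ℓ : gr n R 1) : ∃ a : Fin (n + 1) → R, ℓ = lf a := by
  have h : ℓ.1 ∈ Submodule.span R (Set.range (MvPolynomial.X (R := R) (σ := Fin (n + 1)))) := by
    rw [← MvPolynomial.homogeneousSubmodule_one_eq_span_X]
    exact ℓ.2
  obtain ⟨c, hc⟩ := (Submodule.mem_span_range_iff_exists_fun R).mp h
  refine ⟨c, Subtype.ext ?_⟩
  rw [← hc, lf_val]
  exact Finset.sum_congr rfl fun j _ => MvPolynomial.smul_eq_C_mul _ _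

/-- The coordinate form. -/
noncomputable def xf (j : Fin (n + 1)) : gr n R 1 := ⟨MvPolynomial.X j, MvPolynomial.isHomogeneous_X R j⟩

@[simp] theorem xf_val (j : Fin (n + 1)) : (xf (R := R) j).1 = MvPolynomial.X j := rfl

end Ring

variable {n : ℕ} {k : Type u} [Field k]

/-- The `k`-rational point of `v ≠ 0`. -/
noncomputable def pt (v : Fin (n + 1) → k) (hv : v ≠ 0) : ProjectiveSpectrum (gr n k) where
  asHomogeneousIdeal := (RingHom.ker (MvPolynomial.eval v)).homogeneousCore (gr n k)
  isPrime := (RingHom.ker_isPrime (MvPolynomial.eval v)).homogeneousCore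
  not_irrelevant_le := by
    intro h
    obtain ⟨j, hj⟩ : ∃ j, v j ≠ 0 := by
      by_contra hc
      push Not at hc
      exact hv (funext hc)
    have h1 : (MvPolynomial.X j : MvPolynomial (Fin (n + 1)) k) ∈ HomogeneousIdeal.irrelevant (gr n k) := by
      rw [HomogeneousIdeal.mem_irrelevant_iff]
      have h2 := DirectSum.decompose_of_mem_ne (ℳ := gr n k) (MvPolynomial.isHomogeneous_X k j) (one_ne_zero (α := ℕ))
      exact h2
    have h2 := h h1
    have h3 := Ideal.toIdeal_homogeneousCore_le (gr n k) (RingHom.ker (MvPolynomial.eval v)) h2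
    rw [RingHom.mem_ker, MvPolynomial.eval_X] at h3
    exact hj h3

theorem mem_pt (v : Fin (n + 1) → k) (hv : v ≠ 0) {d : ℕ} (a : gr n k d) :
    a.1 ∈ (pt v hv).asHomogeneousIdeal ↔ MvPolynomial.eval v a.1 = 0 := by
  constructor
  · intro h
    exact Ideal.toIdeal_homogeneousCore_le (gr n k) (RingHom.ker (MvPolynomial.eval v)) h
  · intro h
    exact Ideal.mem_homogeneousCore_of_homogeneous_of_mem ⟨d, a.2⟩ h

theorem eval_lf (v a : Fin (n + 1) → k) : MvPolynomial.eval v (lf a).1 = ∑ j, a j * v j := by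
  simp

/-- Where `row A` is an epimorphism the `A i` have no common zero. -/
theorem exists_notMem_of_epi {ι : Type} [Finite ι] {m m' : ℤ} {d : ℕ} (h : m + d = m') (A : ι → gr n k d)
    [Epi (row h A)] (x : ProjectiveSpectrum (gr n k)) : ∃ i, (A i).1 ∉ x.asHomogeneousIdeal := by
  have := Fintype.ofFinite ι
  by_contra hc
  push Not at hc
  obtain ⟨f, W, hxW, hW⟩ := Ega3B.ProjFrame.coveredByOne n k x
  let s : Sec (T n k m') W := Ega2.TwistInv.powSec f m' W hW
  obtain ⟨V, hVW, hxV, t, ht⟩ := locally_surjective_of_epi (row h A) s x hxW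
  have h1 : IsUnit (evT (res _ hVW s) x hxV) :=
    Ega2.TwistBasic.isUnit_mk x _ _ (Ega2.TwistInv.powOne_notMem (hW x hxW) _) (Ega2.TwistInv.powOne_notMem (hW x hxW) _)
  rw [← ht, evT_row] at h1
  have h2 : ∑ i, al x (A i).1 * val t x hxV i ∈ IsLocalRing.maximalIdeal (Twist.Loc (gr n k) x) := by
    refine Ideal.sum_mem _ fun i _ => Ideal.mul_mem_right _ _ ?_
    have h3 := (IsLocalization.AtPrime.to_map_mem_maximal_iff (Twist.Loc (gr n k) x)
      x.asHomogeneousIdeal.toIdeal (A i).1).mpr (hc i)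
    exact h3
  exact (IsLocalRing.mem_maximalIdeal _).mp h2 h1

/-- If `row ℓ` is an epimorphism then the linear forms `ℓ i` span. -/
theorem surjective_of_epi {ι : Type} [Fintype ι] {m m' : ℤ} (h : m + (1 : ℕ) = m') (a : ι → Fin (n + 1) → k)
    [Epi (row h fun i => lf (a i))] : Function.Surjective (fun (c : ι → k) (j : Fin (n + 1)) => ∑ i, c i * a i j) := by
  classical
  let L : (ι → k) →ₗ[k] (Fin (n + 1) → k) := Fintype.linearCombination k a
  have hL : ∀ c, L c = fun j => ∑ i, c i * a i j := by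
    intro c
    funext j
    simp [L, Fintype.linearCombination_apply]
  suffices hs : LinearMap.range L = ⊤ by
    intro y
    obtain ⟨c, hc⟩ := LinearMap.range_eq_top.mp hs y
    exact ⟨c, (hL c).symm.trans hc⟩
  by_contra hne
  obtain ⟨f, hf, hf'⟩ := Submodule.exists_le_ker_of_lt_top _ (lt_top_iff_ne_top.mpr hne)
  let v : Fin (n + 1) → k := fun j => f (Pi.single j 1)
  have hfv : ∀ y, f y = ∑ j, y j * v j := by
    intro y
    conv_lhs => rw [← Finset.univ_sum_single y, map_sum]
    refine Finset.sum_congr rfl fun j _ => ?_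
    have : Pi.single j (y j) = y j • (Pi.single j 1 : Fin (n + 1) → k) := by
      rw [← Pi.single_smul, smul_eq_mul, mul_one]
    rw [this, map_smul, smul_eq_mul]
  have hv : v ≠ 0 := by
    rintro h0
    apply hf
    ext y
    simp [hfv, h0]
  obtain ⟨i, hi⟩ := exists_notMem_of_epi h (fun i => lf (a i)) (pt v hv)
  apply hi
  rw [mem_pt, eval_lf, ← hfv]
  apply hf'
  refine ⟨Pi.single i 1, ?_⟩
  rw [hL]
  funext j
  simp [Pi.single_apply]

end K699.LinForm
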