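import Groth.Agent.VBPn.K699.GMat
import Groth.Agent.Ega2.BasSec
import Groth.Agent.Ega3B.ProjTwist

/-!
# `⨁_ι O(m)` is finite locally free of rank `|ι|`
-/

set_option autoImplicit false

universe u

open CategoryTheory CategoryTheory.Limits AlgebraicGeometry Opposite TopologicalSpace

namespace K699.RankOO

open Groth.Agent Groth.Agent.Divis.ProjPic Groth.Agent.VarietyB.TwistMul K699.TwHom Groth.Agent.Sga67.Sec
open K699.GMat

attribute [local instance] Abelian.hasFiniteBiproducts

theorem bijective_comb {X : Scheme.{u}} {ι : Type} [Fintype ι] [DecidableEq ι] (K : ι → X.Modules) (V : X.Opens)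
    (e : ∀ i, Sec (K i) V) (he : ∀ i, Function.Bijective (fun a : Γ(X, V) => a • e i)) :
    Function.Bijective (fun a : ι → Γ(X, V) => ∑ i, a i • appS (biproduct.ι K i) V (e i)) := by
  have hπ : ∀ (a : ι → Γ(X, V)) (j : ι), appS (biproduct.π K j) V (∑ i, a i • appS (biproduct.ι K i) V (e i)) = a j • e j := by
    intro a j
    rw [map_sum, Finset.sum_eq_single j]
    · rw [map_smul, ← appS_comp, biproduct.ι_π_self]
      rfl
    · intro i _ hi
      rw [map_smul, ← appS_comp, biproduct.ι_π_ne _ hi, appS_zero, smul_zero]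
    · exact fun h => absurd (Finset.mem_univ j) h
  constructor
  · intro a b hab
    funext j
    apply (he j).1
    have h1 := congrArg (appS (biproduct.π K j) V) hab
    rwa [hπ, hπ] at h1
  · intro s
    choose a ha using fun j => (he j).2 (appS (biproduct.π K j) V s)
    refine ⟨a, sec_ext K V _ _ fun j => ?_⟩
    rw [hπ]
    exact ha j

theorem rank_biproduct {X : Scheme.{u}} {ι : Type} [Finite ι] (K : ι → X.Modules) {N : ℕ} (hN : Nat.card ι = N)
    (h : ∀ x : X, ∃ (U : X.Opens), x ∈ U ∧ ∀ i, ∃ e : Γ(K i, U), Fdesc.LocGen.IsGen e) :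
    FlatMod.IsFinLocFreeOfRank N (⨁ K) := by
  classical
  have := Fintype.ofFinite ι
  rw [Ega2.BasSec.isFinLocFreeOfRank_iff]
  intro x
  obtain ⟨U, hxU, hU⟩ := h x
  choose e he using hU
  let σ : Fin N ≃ ι := (finCongr (hN.symm.trans Nat.card_eq_fintype_card)).trans (Fintype.equivFin ι).symm
  refine ⟨U, fun i => appS (biproduct.ι K (σ i)) U (e (σ i)), hxU, fun V hV => ?_⟩
  have h1 := bijective_comb K V (fun i => res (K i) hV (e i)) (fun i => he i V hV)
  have h2 : Ega2.BasSec.comb (fun i => Fdesc.LocGen.res (⨁ K) hV (appS (biproduct.ι K (σ i)) U (e (σ i)))) =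
      (fun a : ι → Γ(X, V) => ∑ i, a i • appS (biproduct.ι K i) V (res (K i) hV (e i))) ∘
        (fun a : Fin N → Γ(X, V) => a ∘ σ.symm) := by
    funext a
    change ∑ i, a i • _ = ∑ i, a (σ.symm i) • _
    rw [← Equiv.sum_comp σ]
    refine Finset.sum_congr rfl fun i _ => ?_
    rw [Equiv.symm_apply_apply]
    congr 1
    exact (appS_res _ _ _).symm
  rw [h2]
  exact h1.comp (σ.symm.arrowCongr (Equiv.refl _)).symm.bijective

variable {n : ℕ} {R : Type u} [CommRing R]

theorem rank_OO {ι : Type} [Finite ι] {N : ℕ} (hN : Nat.card ι = N) (m : ℤ) :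
    FlatMod.IsFinLocFreeOfRank N (OO n R ι m) := by
  refine rank_biproduct _ hN fun x => ?_
  obtain ⟨f, W, hxW, hW⟩ := Ega3B.ProjFrame.coveredByOne n R x
  exact ⟨W, hxW, fun _ => ⟨Ega2.TwistInv.powSec f m W hW, Ega2.TwistInv.isGen_powSec f m W hW⟩⟩

theorem rank_T (m : ℤ) : FlatMod.IsFinLocFreeOfRank 1 (T n R m) :=
  Ega2.QCohLocal.isFinLocFreeOfRank_one_iff.mpr (Ega3B.ProjTwist.isInvertible_twistProjSpace n R m)

end K699.RankOO
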