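import Groth.Agent.VBPn.K697.ExtHom
import Groth.Agent.VBPn.K699.GMat
import Groth.Agent.CurvesC.ExtUnit
import Groth.Agent.Sga2.LefPow644
import Groth.Agent.S0844
import Groth.Agent.Gaga.H883.Serre
import Mathlib.Algebra.Homology.DerivedCategory.Ext.MapBijective

/-!
# `Ext^i(B, M) = 0` if `B` is invertible with inverse `A` and `H^i(M ⊗ A) = 0`

* `subsingleton_ext`: the general statement.
* `subsingleton_ext_O`: `Ext^i(O(a), O(b)) = 0` on `P^n_R`, `0 < i < n`.
* `subsingleton_biproduct_left`, `subsingleton_biproduct_right`: finite sums.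
-/

set_option autoImplicit false

universe w v u

open CategoryTheory CategoryTheory.Limits CategoryTheory.Abelian AlgebraicGeometry Opposite TopologicalSpace

namespace K699.ExtTw

open Groth.Agent

attribute [local instance] Abelian.hasFiniteBiproducts

section General

variable {X : Scheme.{u}} [HasExt.{w} X.Modules]

theorem subsingleton_ext {A B : X.Modules} (e : CohB1.tensorMod A B ≅ Coh.structureModule X) (M : X.Modules) (i : ℕ)
    (h : Subsingleton (Coh.HH X (CohB1.tensorMod M A) i)) : Subsingleton (Ext.{w} B M i) := by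
  have := Sga2.LefPow644.isEquivalence_of_inv e
  let T := DCoh.tensorRightMod A
  have := CurvesC.ExtUnit.enoughInjectives_modules X
  have hb := T.mapExt_bijective_of_preservesInjectiveObjects (X := B) (Y := M) i
  let e' : T.obj B ≅ Coh.structureModule X := Ega2.Tens.swap B A ≪≫ e
  have h1 : Subsingleton (Ext.{w} (Coh.structureModule X) (T.obj M) i) :=
    (CurvesC.ExtUnit.extHH (T.obj M) i).toEquiv.subsingleton_congr.mpr h
  have h2 : Subsingleton (Ext.{w} (T.obj B) (T.obj M) i) := K697.ExtHom.subsingleton_of_iso e'.symm (Iso.refl _) h1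
  exact hb.1.subsingleton

end General

section Biproduct

variable {C : Type u} [Category.{v} C] [Abelian C] [HasExt.{w} C] {ι : Type} [Finite ι]

theorem subsingleton_biproduct_left (K : ι → C) (Y : C) (n : ℕ) (h : ∀ i, Subsingleton (Ext (K i) Y n)) :
    Subsingleton (Ext (⨁ K) Y n) := by
  have := Fintype.ofFinite ι
  refine K697.ExtHom.subsingleton_of_forall fun x => ?_
  have h1 : (Ext.mk₀ (∑ i, biproduct.π K i ≫ biproduct.ι K i)).comp x (zero_add n) = x := by
    rw [biproduct.total, Ext.mk₀_id_comp]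
  rw [← h1, Ext.mk₀_sum, Ext.sum_comp]
  refine Finset.sum_eq_zero fun i _ => ?_
  rw [← Ext.mk₀_comp_mk₀, Ext.comp_assoc_of_second_deg_zero, Subsingleton.elim ((Ext.mk₀ (biproduct.ι K i)).comp x (zero_add n)) 0, Ext.comp_zero]

theorem subsingleton_biproduct_right (K : ι → C) (Y : C) (n : ℕ) (h : ∀ i, Subsingleton (Ext Y (K i) n)) :
    Subsingleton (Ext Y (⨁ K) n) := by
  have := Fintype.ofFinite ι
  refine K697.ExtHom.subsingleton_of_forall fun x => ?_
  have h1 : x.comp (Ext.mk₀ (∑ i, biproduct.π K i ≫ biproduct.ι K i)) (add_zero n) = x := by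
    rw [biproduct.total, Ext.comp_mk₀_id]
  rw [← h1, Ext.mk₀_sum, Ext.comp_sum]
  refine Finset.sum_eq_zero fun i _ => ?_
  rw [← Ext.mk₀_comp_mk₀, ← Ext.comp_assoc_of_third_deg_zero, Subsingleton.elim (x.comp (Ext.mk₀ (biproduct.π K i)) (add_zero n)) 0, Ext.zero_comp]

end Biproduct

section Proj

open K699.TwHom K699.GMat

variable {n : ℕ} {R : Type u} [CommRing R] [HasExt.{w} (Proj (gr n R)).Modules]

theorem subsingleton_ext_O (a b : ℤ) (i : ℕ) (h0 : 0 < i) (h1 : i < n) :
    Subsingleton (Ext.{w} (T n R a) (T n R b) i) := by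
  obtain ⟨e1⟩ := Gaga.H883.Serre.O_mul n R (-a) a
  obtain ⟨e2⟩ := Gaga.H883.Serre.O_mul n R b (-a)
  obtain ⟨e0⟩ := Gaga.H883.Serre.O_zero n R
  rw [neg_add_cancel] at e1
  refine subsingleton_ext (X := Proj (gr n R)) (A := T n R (-a)) (B := T n R a) (e1 ≪≫ e0) (T n R b) i ?_
  exact Gaga.H883.Serre.HH_congr e2.symm i (S0844.result R n _ i (by omega) (by omega))

end Proj

end K699.ExtTw
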