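import Groth.Agent.VBPn.K699.Scalar
import Groth.Agent.VBPn.K699.ExtTw
import Groth.Agent.Krr.H487.KerRank
import Groth.Agent.VBPn.K699.RankOO

/-!
# A simple bundle of rank `n - 1` on `P^n_k`, `n ≥ 3`, `char k = 0`
-/

set_option autoImplicit false

universe u

open CategoryTheory CategoryTheory.Limits AlgebraicGeometry Opposite TopologicalSpace

namespace K699.WronSimple

open Groth.Agent Groth.Agent.Divis.ProjPic Groth.Agent.VarietyB.TwistMul K699.TwHom Groth.Agent.Sga67.Sec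
open K699.GMat K699.LinForm K699.WronEx K699.Scalar K699.Wron

attribute [local instance] Abelian.hasFiniteBiproducts

variable {n : ℕ} {k : Type u} [Field k] {m m' m'' : ℤ}

theorem h00 (m : ℤ) : m + (0 : ℕ) = m := by simp

section Algebra

theorem eq_scm_of_X {B : Fin (n + 1) → Fin (n + 1) → gr n k 0} {C : gr n k 0}
    (h : ∀ i, ∑ j, (B i j).1 * MvPolynomial.X j = MvPolynomial.X i * C.1) :
    ∃ c : k, B = scm (Fin (n + 1)) c := by
  choose b hb using fun i j => exists_cst (B i j)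
  obtain ⟨c, rfl⟩ := exists_cst C
  refine ⟨c, funext fun i => funext fun j => ?_⟩
  have h1 : (lf (b i)).1 = (lf (fun j => if i = j then c else 0)).1 := by
    rw [lf_val, lf_val]
    have h2 := h i
    simp only [hb, cst_val] at h2
    rw [h2, Finset.sum_eq_single i]
    · rw [if_pos rfl, mul_comm]
    · intro j _ hj
      rw [if_neg hj.symm, map_zero, zero_mul]
    · exact fun h => absurd (Finset.mem_univ i) h
  have h3 := congrFun (lf_injective h1) j
  rw [hb, h3, scm]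
  split_ifs with hij
  · rfl
  · exact Subtype.ext (map_zero _)

theorem exists_ij (m : Fin (2 * n - 1)) : ∃ i j : Fin (n + 1), i ≠ j ∧ (i : ℕ) + j = m + 1 := by
  have hm := m.2
  by_cases h : (m : ℕ) + 1 ≤ n
  · refine ⟨⟨0, by omega⟩, ⟨m + 1, by omega⟩, fun h' => ?_, by simp⟩
    have := congrArg Fin.val h'
    simp at this
  · refine ⟨⟨m + 1 - n, by omega⟩, ⟨n, by omega⟩, fun h' => ?_, ?_⟩
    · have := congrArg Fin.val h'
      simp at this
      omega
    · simp
      omega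

theorem eq_scm_of_Mt [CharZero k] {A : Fin (2 * n - 1) → Fin (2 * n - 1) → gr n k 0} {c : k}
    (h : ∀ i j, ∑ l, (A i l).1 * (Mt (k := k) l j).1 = MvPolynomial.C c * (Mt (k := k) i j).1) :
    A = scm (Fin (2 * n - 1)) c := by
  choose a ha using fun i j => exists_cst (A i j)
  refine funext fun i => funext fun m => ?_
  obtain ⟨p, q, hpq, hm⟩ := exists_ij m
  have h1 := h i q
  simp only [ha, cst_val] at h1
  have h2 : (lf (fun r => ∑ l, a i l * (if (r : ℕ) + q = l + 1 then (q : k) - (r : k) else 0))).1 =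
      (lf (fun r : Fin (n + 1) => c * (if (r : ℕ) + q = i + 1 then (q : k) - (r : k) else 0))).1 := by
    rw [lf_val, lf_val]
    simp only [map_sum, map_mul, Finset.sum_mul, mul_assoc]
    rw [Finset.sum_comm, ← Finset.mul_sum]
    simp only [← Finset.mul_sum]
    exact h1
  have h3 := congrFun (lf_injective h2) p
  have hne : (q : k) - (p : k) ≠ 0 := by
    rw [sub_ne_zero]
    exact fun h' => hpq (Fin.ext (Nat.cast_injective h'.symm))
  rw [Finset.sum_eq_single m, if_pos hm] at h3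
  · rw [ha]
    by_cases him : i = m
    · subst him
      rw [if_pos hm] at h3
      rw [scm, if_pos rfl, mul_right_cancel₀ hne h3]
    · rw [if_neg (fun h' => him (Fin.ext (by omega))), mul_zero] at h3
      rw [scm, if_neg him, (mul_eq_zero.mp h3).resolve_right hne]
      exact Subtype.ext (map_zero _)
  · intro l _ hl
    rw [if_neg (fun h' => hl (Fin.ext (by omega))), mul_zero]
  · exact fun h => absurd (Finset.mem_univ m) h

end Algebra

section Ext

open CategoryTheory.Abelian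

theorem exists_desc' {C : Type*} [Category C] [Abelian C] [HasExt.{u + 1} C] {P Q S Y : C} (f : P ⟶ Q) (g : Q ⟶ S)
    (w : f ≫ g = 0) (hS : (ShortComplex.mk f g w).ShortExact) (h : Subsingleton (Ext.{u + 1} S Y 1)) (φ : P ⟶ Y) :
    ∃ ψ : Q ⟶ Y, f ≫ ψ = φ := K697.ExtHom.exists_desc hS h φ

theorem subsingleton_ext_K (hn : 3 ≤ n) [HasExt.{u + 1} (Proj (gr n k)).Modules] (a b : ℤ) (h' : a + (1 : ℕ) = b)
    (c : ℤ) : Subsingleton (Ext.{u + 1} (kernel (row h' (xf (n := n) (R := k)))) (T n k c) 1) := by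
  refine K697.ExtHom.subsingleton_fst (shortExact₂ (n := n) (k := k) h') (m := 2) rfl ?_ ?_
  · exact ExtTw.subsingleton_biproduct_left _ _ _ fun i =>
      ExtTw.subsingleton_ext_O (n := n) (R := k) a c 1 one_pos (by omega)
  · exact ExtTw.subsingleton_ext_O (n := n) (R := k) b c 2 two_pos (by omega)

end Ext

/-- The kernel bundle. -/
noncomputable abbrev E (n : ℕ) (k : Type u) [Field k] [CharZero k] : (Proj (gr n k)).Modules :=
  kernel (toK (k := k) (n := n) (m := 0) (m' := 1) (m'' := 2) rfl rfl)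

theorem exists_maps [CharZero k] (hn : 3 ≤ n) (φ : E n k ⟶ E n k) :
    ∃ (A : OO n k (Fin (2 * n - 1)) 0 ⟶ OO n k (Fin (2 * n - 1)) 0) (B : OO n k (Fin (n + 1)) 1 ⟶ OO n k (Fin (n + 1)) 1)
      (C : T n k 2 ⟶ T n k 2), kernel.ι _ ≫ A = φ ≫ kernel.ι _ ∧
        A ≫ gm (m := 0) (m' := 1) rfl Mt = gm (m := 0) (m' := 1) rfl Mt ≫ B ∧
        B ≫ row (m := 1) (m' := 2) rfl xf = row (m := 1) (m' := 2) rfl xf ≫ C := by
  have := HasExt.standard (Proj (gr n k)).Modules
  have hn1 : 1 < n := by omega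
  have h1 := shortExact₁ (n := n) (k := k) (m := 0) (m' := 1) (m'' := 2) rfl rfl
  have h2 := shortExact₂ (n := n) (k := k) (m' := 1) (m'' := 2) rfl
  have := h1.epi_g
  have := h2.epi_g
  let π : OO n k (Fin (2 * n - 1)) 0 ⟶ kernel (row (m := 1) (m' := 2) rfl (xf (n := n) (R := k))) := toK rfl rfl
  let x : OO n k (Fin (n + 1)) 1 ⟶ T n k 2 := row (m := 1) (m' := 2) rfl (xf (n := n) (R := k))
  obtain ⟨A, hA⟩ := exists_desc' (kernel.ι π) π (kernel.condition π) h1
    (ExtTw.subsingleton_biproduct_right _ _ _ fun _ : Fin (2 * n - 1) => subsingleton_ext_K hn 1 2 rfl 0) (φ ≫ kernel.ι π)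
  have hAπ : kernel.ι π ≫ A ≫ π = 0 := by
    rw [← Category.assoc, hA, Category.assoc, kernel.condition, comp_zero]
  let A' : kernel x ⟶ kernel x := h1.exact.desc (A ≫ π) hAπ
  have hA1 : π ≫ A' = A ≫ π := h1.exact.g_desc (A ≫ π) hAπ
  obtain ⟨B, hB⟩ := exists_desc' (kernel.ι x) x (kernel.condition x) h2
    (ExtTw.subsingleton_biproduct_right _ _ _ fun _ : Fin (n + 1) =>
      ExtTw.subsingleton_ext_O (n := n) (R := k) 2 1 1 one_pos hn1) (A' ≫ kernel.ι x)
  have hBx : kernel.ι x ≫ B ≫ x = 0 := by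
    rw [← Category.assoc, hB, Category.assoc, kernel.condition, comp_zero]
  let C : T n k 2 ⟶ T n k 2 := h2.exact.desc (B ≫ x) hBx
  have hC : x ≫ C = B ≫ x := h2.exact.g_desc (B ≫ x) hBx
  refine ⟨A, B, C, hA, ?_, hC.symm⟩
  have hK : π ≫ kernel.ι x = gm (m := 0) (m' := 1) rfl Mt := toK_ι _ _
  rw [← hK, ← Category.assoc, ← hA1, Category.assoc, Category.assoc, hB]

theorem exists_scalar [CharZero k] (hn : 3 ≤ n) (φ : E n k ⟶ E n k) :
    ∃ c : k, φ ≫ kernel.ι _ = kernel.ι _ ≫ gm (h00 0) (scm (Fin (2 * n - 1)) c) := by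
  obtain ⟨A, B, C, hA, hAB, hBC⟩ := exists_maps hn φ
  obtain ⟨A₀, rfl⟩ := exists_gm (h00 0) A
  obtain ⟨B₀, rfl⟩ := exists_gm (h00 1) B
  obtain ⟨C₀, rfl⟩ := exists_mulMap (h00 2) C
  have e1 := gm_row (h00 1) (show (1 : ℤ) + (1 : ℕ) = 2 by rfl) (show (1 : ℤ) + (1 : ℕ) = 2 by rfl) B₀ xf
    (fun i => ⟨∑ j, (B₀ i j).1 * (xf (n := n) (R := k) j).1, by
      refine Submodule.sum_mem _ fun j _ => ?_
      have := MvPolynomial.IsHomogeneous.mul (B₀ i j).2 (xf (n := n) (R := k) j).2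
      simpa using this⟩) fun i => rfl
  have e2 := row_mulMap (show (1 : ℤ) + (1 : ℕ) = 2 by rfl) (h00 2) (show (1 : ℤ) + (1 : ℕ) = 2 by rfl) xf C₀
    (fun i => ⟨(xf (n := n) (R := k) i).1 * C₀.1, by
      have := MvPolynomial.IsHomogeneous.mul (xf (n := n) (R := k) i).2 C₀.2
      simpa using this⟩) fun i => rfl
  have h1 := row_injective _ (e1.symm.trans (hBC.trans e2))
  obtain ⟨c, rfl⟩ := eq_scm_of_X (B := B₀) (C := C₀) fun i => congrArg Subtype.val (congrFun h1 i)
  refine ⟨c, ?_⟩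
  have e3 := gm_comp (h00 0) (show (0 : ℤ) + (1 : ℕ) = 1 by rfl) (show (0 : ℤ) + (1 : ℕ) = 1 by rfl) A₀ Mt
    (fun i l => ⟨∑ j, (A₀ i j).1 * (Mt (k := k) j l).1, by
      refine Submodule.sum_mem _ fun j _ => ?_
      have := MvPolynomial.IsHomogeneous.mul (A₀ i j).2 (Mt (k := k) j l).2
      simpa using this⟩) fun i l => rfl
  have e4 := gm_comp (show (0 : ℤ) + (1 : ℕ) = 1 by rfl) (h00 1) (show (0 : ℤ) + (1 : ℕ) = 1 by rfl) Mt
    (scm (Fin (n + 1)) c) (fun i l => ⟨MvPolynomial.C c * (Mt (k := k) i l).1, by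
      have := MvPolynomial.IsHomogeneous.mul (MvPolynomial.isHomogeneous_C _ c) (Mt (k := k) i l).2
      simpa using this⟩) fun i l => by
        rw [Finset.sum_eq_single l]
        · rw [scm, if_pos rfl, cst_val]
          exact mul_comm _ _
        · intro j _ hj
          rw [scm, if_neg hj]
          exact mul_zero _
        · exact fun h => absurd (Finset.mem_univ l) h
  have h2 := gm_injective _ (e3.symm.trans (hAB.trans e4))
  have h3 := eq_scm_of_Mt (A := A₀) (c := c) fun i j => congrArg Subtype.val (congrFun (congrFun h2 i) j)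
  rw [← hA, h3]

theorem simple [CharZero k] (hn : 3 ≤ n) (φ : E n k ⟶ E n k) :
    ∃ c : k, (SheafOfModules.toSheaf (Proj (gr n k)).ringCatSheaf).map φ =
      Coh.smulAb (E n k) (Coh.toGlobal (X := Proj (gr n k)) (CohB1.ProjSpace.toSpec n k) c) := by
  obtain ⟨c, hc⟩ := exists_scalar hn φ
  refine ⟨c, toSheaf_map_eq φ c fun U s => ?_⟩
  apply injective_of_mono (kernel.ι (toK (k := k) (n := n) (m := 0) (m' := 1) (m'' := 2) rfl rfl)) U
  have h1 := congrArg (fun f => appS f U s) hc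
  have h2 : appS (kernel.ι (toK (k := k) (n := n) (m := 0) (m' := 1) (m'' := 2) rfl rfl)) U (sc c U • s) =
      sc c U • appS (kernel.ι _) U s := map_smul _ _ _
  rw [h2, ← appS_gm_scm (h00 0)]
  exact h1

theorem rank_E [CharZero k] (hn : 1 ≤ n) : FlatMod.IsFinLocFreeOfRank (n - 1) (E n k) := by
  have h1 := shortExact₁ (n := n) (k := k) (m := 0) (m' := 1) (m'' := 2) rfl rfl
  have h2 := shortExact₂ (n := n) (k := k) (m' := 1) (m'' := 2) rfl
  have h3 : FlatMod.IsFinLocFreeOfRank n (kernel (row (m := 1) (m' := 2) rfl (xf (n := n) (R := k)))) :=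
    Krr.H487.KerRank.isFinLocFreeOfRank_left h2 (m := 1) (RankOO.rank_OO (by simp) 1) (RankOO.rank_T 2)
  exact Krr.H487.KerRank.isFinLocFreeOfRank_left h1 (m := n) (RankOO.rank_OO (by simp; omega) 0) h3

theorem simple_T (m : ℤ) (φ : T n k m ⟶ T n k m) :
    ∃ c : k, (SheafOfModules.toSheaf (Proj (gr n k)).ringCatSheaf).map φ =
      Coh.smulAb (T n k m) (Coh.toGlobal (X := Proj (gr n k)) (CohB1.ProjSpace.toSpec n k) c) := by
  obtain ⟨a, rfl⟩ := exists_mulMap (h00 m) φ
  obtain ⟨c, rfl⟩ := exists_cst a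
  exact ⟨c, toSheaf_map_eq _ c fun U s => appS_mulMap_cst _ c U s⟩

theorem simple_zero (φ : OO n k (Fin 0) 0 ⟶ OO n k (Fin 0) 0) :
    ∃ c : k, (SheafOfModules.toSheaf (Proj (gr n k)).ringCatSheaf).map φ =
      Coh.smulAb (OO n k (Fin 0) 0) (Coh.toGlobal (X := Proj (gr n k)) (CohB1.ProjSpace.toSpec n k) c) :=
  ⟨0, toSheaf_map_eq _ 0 fun U s => sec_ext _ U _ _ fun j => j.elim0⟩

end K699.WronSimple
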