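import Groth.Agent.VBPn.K699.OmegaSimple

/-!
# Quotients of `Ω(1)` by `O(-1)` on `P^n_k`, `n ≥ 3`
-/

set_option autoImplicit false

universe u

open CategoryTheory CategoryTheory.Limits AlgebraicGeometry Opposite TopologicalSpace

namespace K699.NullCorr

open Groth.Agent Groth.Agent.Divis.ProjPic Groth.Agent.VarietyB.TwistMul K699.TwHom Groth.Agent.Sga67.Sec
open K699.GMat K699.LinForm K699.WronEx K699.Scalar K699.Wron K699.WronSimple K699.KerSplit K699.OmegaSimple

attribute [local instance] Abelian.hasFiniteBiproducts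

variable {n : ℕ} {k : Type u} [Field k]

/-- A finite locally free module of positive rank on `P^n_k` is not zero. -/
theorem not_isZero_of_rank {M : (Proj (gr n k)).Modules} {r : ℕ} (hr : 0 < r) (hM : FlatMod.IsFinLocFreeOfRank r M) :
    ¬ IsZero M := by
  intro h0
  obtain ⟨x, V, hx, s, hs⟩ := exists_frame (n := n) (k := k) 0
  rw [Ega2.BasSec.isFinLocFreeOfRank_iff] at hM
  obtain ⟨U, e, hxU, he⟩ := hM x
  have h1 := he U le_rfl
  have h2 : ∀ t : Γ(M, U), t = 0 := fun t => by
    have h3 : (𝟙 M : M ⟶ M) = 0 := h0.eq_of_src _ _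
    exact congrArg (fun φ => appS φ U t) h3
  have h4 : (fun _ : Fin r => (1 : Γ(Proj (gr n k), U))) = 0 := h1.1 ((h2 _).trans (h2 _).symm)
  have h5 : (1 : Γ(Proj (gr n k), U)) = 0 := congrFun h4 ⟨0, hr⟩
  have h6 : Nontrivial Γ(Proj (gr n k), U) := by
    have : Nonempty U := ⟨⟨x, hxU⟩⟩
    infer_instance
  exact one_ne_zero h5

/-- Scalar multiplication as an automorphism of `O(m)`. -/
theorem mulMap_cst_comp (m : ℤ) (c d : k) :
    (mulMap (cst c) (h00 m) : T n k m ⟶ T n k m) ≫ mulMap (cst d) (h00 m) = mulMap (cst (c * d)) (h00 m) :=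
  mulMap_comp _ _ _ (by simp [cst]) _ _ _

theorem mulMap_cst_one (m : ℤ) : (mulMap (cst (1 : k)) (h00 m) : T n k m ⟶ T n k m) = 𝟙 _ := by
  refine hom_ext fun U s => evT_ext fun x hx => ?_
  refine (evT_mulMap (cst (1 : k)) (h00 m) s x hx).trans ?_
  rw [cst_val, map_one, map_one, one_mul]
  rfl

/-- The automorphism of `O(m)` given by `c ≠ 0`. -/
noncomputable def cIso (m : ℤ) (c : k) (hc : c ≠ 0) : T n k m ≅ T n k m where
  hom := mulMap (cst c) (h00 m)
  inv := mulMap (cst c⁻¹) (h00 m)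
  hom_inv_id := by rw [mulMap_cst_comp, mul_inv_cancel₀ hc, mulMap_cst_one]
  inv_hom_id := by rw [mulMap_cst_comp, inv_mul_cancel₀ hc, mulMap_cst_one]

open CategoryTheory.Abelian in
theorem iso_iff {Q : (Proj (gr n k)).Modules}
    (hQ : ∀ φ : Q ⟶ Q, ∃ c : k, ∀ (U : (Proj (gr n k)).Opens) (s : Sec Q U), appS φ U s = sc c U • s)
    {m : ℤ} [HasExt.{u + 1} (Proj (gr n k)).Modules] (hExt : Subsingleton (Ext.{u + 1} Q (T n k m) 1))
    (a a' : T n k m ⟶ Q) [Mono a] [Mono a'] {r : ℕ} (hr : 0 < r) (hE : FlatMod.IsFinLocFreeOfRank r (cokernel a)) :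
    Nonempty (cokernel a ≅ cokernel a') ↔ ∃ c : k, c ≠ 0 ∧
      ∀ (U : (Proj (gr n k)).Opens) (s : Sec (T n k m) U), appS a' U s = sc c U • appS a U s := by
  constructor
  · rintro ⟨ψ⟩
    have hS : (ShortComplex.mk a' (cokernel.π a') (cokernel.condition a')).ShortExact :=
      { exact := ShortComplex.exact_cokernel a' }
    obtain ⟨φ, hφ⟩ := K697.ExtHom.exists_lift hS hExt (cokernel.π a ≫ ψ.hom)
    have hφ' : φ ≫ cokernel.π a' = cokernel.π a ≫ ψ.hom := hφ
    obtain ⟨c, hc⟩ := hQ φ
    have h1 : (a ≫ φ) ≫ cokernel.π a' = 0 := by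
      rw [Category.assoc, hφ', ← Category.assoc, cokernel.condition, zero_comp]
    let t : T n k m ⟶ T n k m := hS.exact.lift (a ≫ φ) h1
    have ht : t ≫ a' = a ≫ φ := hS.exact.lift_f (a ≫ φ) h1
    obtain ⟨b, hb⟩ := exists_mulMap (h00 m) t
    obtain ⟨d, rfl⟩ := exists_cst b
    rw [hb] at ht
    have hrel : ∀ (U : (Proj (gr n k)).Opens) (s : Sec (T n k m) U), sc d U • appS a' U s = sc c U • appS a U s := by
      intro U s
      have h2 := congrArg (fun f => appS f U s) ht
      have h3 : appS (mulMap (cst d) (h00 m) ≫ a') U s = appS a' U (sc d U • s) := by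
        rw [← appS_mulMap_cst (h00 m) d U s]
        rfl
      have h4 : appS (a ≫ φ) U s = sc c U • appS a U s := hc U (appS a U s)
      have h5 : appS a' U (sc d U • s) = sc d U • appS a' U s := map_smul _ _ _
      rw [← h5, ← h3, ← h4]
      exact h2
    have hc0 : c ≠ 0 := by
      rintro rfl
      have h2 : φ = 0 := hom_ext fun U s => by
        rw [hc, appS_zero]
        have h3 : sc (n := n) (0 : k) U = 0 := by
          unfold sc
          rw [map_zero]
          exact map_zero _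
        rw [h3, zero_smul]
      rw [h2, zero_comp] at hφ'
      have h3 : ψ.hom = 0 := by
        rw [← cancel_epi (cokernel.π a), comp_zero, ← hφ']
      apply not_isZero_of_rank hr hE
      rw [IsZero.iff_id_eq_zero, ← ψ.hom_inv_id, h3, zero_comp]
    have hscmul : ∀ (c d : k) (U : (Proj (gr n k)).Opens), sc (n := n) (c * d) U = sc c U * sc d U := by
      intro c d U
      unfold sc
      rw [map_mul]
      exact map_mul _ _ _
    have hscone : ∀ (U : (Proj (gr n k)).Opens), sc (n := n) (1 : k) U = 1 := by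
      intro U
      unfold sc
      rw [map_one]
      exact map_one _
    have hd0 : d ≠ 0 := by
      rintro rfl
      obtain ⟨x, V, hx, s, hs⟩ := exists_frame (n := n) (k := k) m
      have h3 : sc (n := n) (0 : k) V = 0 := by
        unfold sc
        rw [map_zero]
        exact map_zero _
      have h4 := hrel V s
      rw [h3, zero_smul] at h4
      have h5 : appS a V s = 0 := by
        have h6 := congrArg (fun t => sc c⁻¹ V • t) h4
        rw [smul_zero, ← mul_smul, ← hscmul, inv_mul_cancel₀ hc0, hscone, one_smul] at h6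
        exact h6.symm
      have h7 : s = 0 := injective_of_mono a V (h5.trans (map_zero _).symm)
      rw [h7] at hs
      exact not_isUnit_zero hs
    refine ⟨d⁻¹ * c, mul_ne_zero (inv_ne_zero hd0) hc0, fun U s => ?_⟩
    rw [hscmul, mul_smul, ← hrel, ← mul_smul, ← hscmul, inv_mul_cancel₀ hd0, hscone, one_smul]
  · rintro ⟨c, hc, h⟩
    have h1 : (cIso m c hc).hom ≫ a = a' := by
      refine hom_ext fun U s => ?_
      rw [h]
      have h2 : appS ((cIso m c hc).hom ≫ a) U s = appS a U (sc c U • s) := by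
        rw [← appS_mulMap_cst (h00 m) c U s]
        rfl
      rw [h2]
      exact map_smul _ _ _
    exact ⟨(cokernelIsoOfEq h1).symm.symm.symm ≪≫ cokernelEpiComp (cIso m c hc).hom a |>.symm⟩

/-- `Ω ⊗ O(1)` on `P^n`. -/
noncomputable abbrev Om (n : ℕ) (k : Type u) [Field k] : (Proj (gr n k)).Modules :=
  CohB1.tensorMod (X := Proj (gr n k)) (Omega.sheaf (X := Proj (gr n k)) (CohB1.ProjSpace.toSpec n k)) (T n k 1)

theorem main (hn : 3 ≤ n) (a a' : T n k (-1) ⟶ Om n k) (ha : Mono a) (ha' : Mono a')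
    {r : ℕ} (hr : 0 < r) (hE : FlatMod.IsFinLocFreeOfRank r (cokernel a)) :
    Nonempty (cokernel a ≅ cokernel a') ↔
      ∃ c : k, c ≠ 0 ∧ (SheafOfModules.toSheaf (Proj (gr n k)).ringCatSheaf).map a' =
        (SheafOfModules.toSheaf (Proj (gr n k)).ringCatSheaf).map a ≫
          Coh.smulAb (Om n k) (Coh.toGlobal (X := Proj (gr n k)) (CohB1.ProjSpace.toSpec n k) c) := by
  have hext := HasExt.standard (Proj (K699.TwHom.gr n k)).Modules
  obtain ⟨e₀⟩ := nonempty_omega_tw_iso (n := n) (k := k) (m := 0) (m' := 1) rfl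
  let e : Om n k ≅ kernel (row (show (0 : ℤ) + (1 : ℕ) = 1 by rfl) (xf (n := n) (R := k))) := e₀
  have h2 := K697.ExtHom.subsingleton_of_iso e.symm (Iso.refl _) (subsingleton_ext_K (n := n) (k := k) hn 0 1 rfl (-1))
  have h1 := iso_iff (n := n) (k := k) (m := -1) (Q := Om n k)
    (scalar_of_iso e (simple_kernel_row (by omega) rfl)) h2 a a' hr hE
  refine h1.trans (exists_congr fun c => and_congr_right fun _ => ⟨fun h => ?_, fun h => ?_⟩)
  · exact toSheaf_map_eq_comp a a' c h
  · exact appS_of_toSheaf_map_eq a a' c h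

end K699.NullCorr
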