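import Groth.Agent.S1690
import Groth.Agent.ShStab.K848.Hull
import Groth.Agent.SDiv.K476.HomSh4

/-!
# Normality of reflexive modules: extension of sections over opens of codimension two
-/

set_option autoImplicit false
universe u
open CategoryTheory CategoryTheory.Limits AlgebraicGeometry TopologicalSpace Opposite

namespace K699.Norm

open Groth.Agent Groth.Agent.CohqB.QC2 Groth.Agent.Divis.DepthTwo Groth.Agent.Divis.ExtendTwo
open Groth.Agent.Divis.StalkMod Groth.Agent.Divis.ExtendStalk Groth.Agent.Divis.ReflexAlg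
open Groth.Agent.Divis.ReflexExtend Groth.Agent.Divis.ReflexSheaf

variable {X : Scheme.{u}}

theorem bijective_of_affine_le (M : X.Modules) (U V : X.Opens)
    (h : ∀ W : X.Opens, W ≤ V → IsAffineOpen W → Function.Bijective (res M (inf_le_left : W ⊓ U ≤ W))) :
    Function.Bijective (res M (inf_le_left : V ⊓ U ≤ V)) := by
  have hcov : ∀ V : X.Opens, V ≤ ⨆ W : {W : X.Opens // IsAffineOpen W ∧ W ≤ V}, W.1 := by
    intro V x hx
    obtain ⟨W, hW, hxW, hWV⟩ := exists_isAffineOpen_mem_and_subset (x := x) (U := V) hx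
    exact Opens.mem_iSup.mpr ⟨⟨W, hW, hWV⟩, hxW⟩
  have hinj : ∀ V' : X.Opens, V' ≤ V → Function.Injective (res M (inf_le_left : V' ⊓ U ≤ V')) := by
    intro V' hV'
    rw [injective_iff_map_eq_zero]
    intro t ht
    apply section_ext M _ (fun W : {W : X.Opens // IsAffineOpen W ∧ W ≤ V'} => W.2.2) (hcov V')
    rintro ⟨W, hW, hWV⟩
    simp only
    rw [map_zero]
    apply (injective_iff_map_eq_zero _).mp (h W (hWV.trans hV') hW).1
    rw [res_res, ← res_res M (inf_le_left : V' ⊓ U ≤ V') (inf_le_inf_right U hWV), ht, map_zero]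
  refine ⟨hinj V le_rfl, fun s => ?_⟩
  choose m hm using fun W : {W : X.Opens // IsAffineOpen W ∧ W ≤ V} =>
    (h W.1 W.2.2 W.2.1).2 (res M (inf_le_inf_right U W.2.2) s)
  obtain ⟨t, ht⟩ := exists_glue M _ (fun W : {W : X.Opens // IsAffineOpen W ∧ W ≤ V} => W.2.2)
    (hcov V) m (by
      intro W W'
      apply hinj _ (inf_le_left.trans W.2.2)
      rw [res_res, res_res,
        ← res_res M (inf_le_left : W.1 ⊓ U ≤ W.1) (inf_le_inf_right U inf_le_left), hm,
        ← res_res M (inf_le_left : W'.1 ⊓ U ≤ W'.1) (inf_le_inf_right U inf_le_right), hm,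
        res_res, res_res])
  refine ⟨t, ?_⟩
  apply section_ext M (fun W : {W : X.Opens // IsAffineOpen W ∧ W ≤ V} => W.1 ⊓ U)
    (fun W => inf_le_inf_right U W.2.2) (by
      rw [← iSup_inf_eq]
      exact inf_le_inf_right U (hcov V))
  intro W
  rw [res_res, ← hm, ← ht, res_res]

theorem bijective_map_iff (F : X.Modules) {U V : X.Opens} (hVU : V ≤ U) :
    Function.Bijective (F.presheaf.map (homOfLE hVU).op) ↔
      Function.Bijective (res F (inf_le_left : U ⊓ V ≤ U)) := by
  have key : ∀ (W : X.Opens) (hW : W ≤ U), W = U ⊓ V → (Function.Bijective (F.presheaf.map (homOfLE hW).op) ↔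
      Function.Bijective (res F (inf_le_left : U ⊓ V ≤ U))) := by
    rintro W hW rfl
    rfl
  exact key V hVU (inf_eq_right.mpr hVU).symm

/-- Reflexive modules are normal. -/
theorem bijective_of_isReflexive [IsIntegral X] [IsLocallyNoetherian X]
    (hn : ∀ x : X, IsIntegrallyClosed (X.presheaf.stalk x)) {F : X.Modules} (hF : Coh.IsCoh F)
    (hr : ∀ x : X, Module.IsReflexive (X.presheaf.stalk x) (F.presheaf.stalk x)) (U V : X.Opens) (hVU : V ≤ U)
    (hcod : ∀ x : X, x ∈ U → x ∉ V → (2 : WithBot ℕ∞) ≤ ringKrullDim (X.presheaf.stalk x)) :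
    Function.Bijective (F.presheaf.map (homOfLE hVU).op) := by
  rw [bijective_map_iff]
  refine bijective_of_affine_le F V U fun W hWU hW => ?_
  have hq : SheafOfModules.IsQuasicoherent (R := X.ringCatSheaf) F := hF.1
  refine (good_of_stalk hF V hW fun x hxW hxV => ?_).bijective F (loc_of_isQuasicoherent F hW) hW
  have h1 := hn x
  have h2 := hr x
  obtain ⟨a, ha, b, hb, hab⟩ := exists_regPair_of_isIntegrallyClosed (hcod x (hWU hxW) hxV)
  exact ⟨a, ha, b, hb, regPair_of_isReflexive hab⟩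

/-- Normal torsion-free coherent modules on regular schemes are reflexive. -/
theorem isReflexive_of_normal [IsIntegral X] [IsLocallyNoetherian X]
    (hreg : ∀ x : X, IsRegularLocalRing (X.presheaf.stalk x)) {F : X.Modules} (hF : Coh.IsCoh F)
    (htf : TorSh.IsTorsionFree F)
    (h : ∀ (U V : X.Opens) (hVU : V ≤ U), (∀ x : X, x ∈ U → x ∉ V → (2 : WithBot ℕ∞) ≤ ringKrullDim (X.presheaf.stalk x)) →
        Function.Bijective (F.presheaf.map (homOfLE hVU).op)) (x : X) :
    Module.IsReflexive (X.presheaf.stalk x) (F.presheaf.stalk x) := by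
  have hX : Pi1.IsNormalScheme X := fun x => ⟨inferInstance, K848.Hull.isIntegrallyClosed_of_regular hreg x⟩
  refine (S1690.result X hX F hF).mpr ⟨S1690.freeOpen F, ?_, S1690.isFinLocFree_restrict_freeOpen F, ?_⟩ x
  · intro x hx
    by_contra hcon
    obtain ⟨V, n, hxV, e⟩ := exists_free_nhd hF x (K848.Hull.free_stalk hreg hF htf x hcon)
    exact hx (Opens.mem_sSup.mpr ⟨V, ⟨n, e⟩, hxV⟩)
  · rw [isIso_unit_iff]
    intro V
    have h1 := h V (V ⊓ S1690.freeOpen F) inf_le_left fun x hxV hx => by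
      by_contra hcon
      obtain ⟨W, n, hxW, e⟩ := exists_free_nhd hF x (K848.Hull.free_stalk hreg hF htf x hcon)
      exact hx ⟨hxV, Opens.mem_sSup.mpr ⟨W, ⟨n, e⟩, hxW⟩⟩
    exact h1

end K699.Norm
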