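import Groth.Agent.VBPn.K699.WronEx
import Groth.Agent.FormalB.ProjScalar

/-!
# Scalars acting on modules on `P^n_R`; injectivity of `mulMap`, `gm`, `row`
-/

set_option autoImplicit false

universe u

open CategoryTheory CategoryTheory.Limits AlgebraicGeometry Opposite TopologicalSpace

namespace K699.Scalar

open Groth.Agent Groth.Agent.Divis.ProjPic Groth.Agent.VarietyB.TwistMul K699.TwHom Groth.Agent.Sga67.Sec
open K699.GMat K699.LinForm K699.WronEx

attribute [local instance] Abelian.hasFiniteBiproducts

variable {n : ℕ} {R : Type u} [CommRing R]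

/-- The scalar `c` as a section of the structure sheaf. -/
noncomputable def sc (c : R) (U : (Proj (gr n R)).Opens) : Γ(Proj (gr n R), U) :=
  Coh.resTop (Proj (gr n R)) (op U) (Coh.toGlobal (CohB1.ProjSpace.toSpec n R) c)

theorem ev_sc (c : R) (U : (Proj (gr n R)).Opens) (x : ProjectiveSpectrum (gr n R)) (hx : x ∈ U) :
    ev (sc c U) x hx = al x (MvPolynomial.C c) :=
  (FormalB.ProjScalar.toGlobal_val n R c (op U) x hx).trans (IsScalarTower.algebraMap_apply R
    (MvPolynomial (Fin (n + 1)) R) (Twist.Loc (gr n R) x) c)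

/-- Criterion for a morphism to be multiplication by a scalar. -/
theorem toSheaf_map_eq {M : (Proj (gr n R)).Modules} (φ : M ⟶ M) (c : R)
    (h : ∀ (U : (Proj (gr n R)).Opens) (s : Sec M U), appS φ U s = sc c U • s) :
    (SheafOfModules.toSheaf (Proj (gr n R)).ringCatSheaf).map φ =
      Coh.smulAb M (Coh.toGlobal (X := Proj (gr n R)) (CohB1.ProjSpace.toSpec n R) c) := by
  refine Sheaf.hom_ext ?_
  refine NatTrans.ext (funext fun U => ?_)
  refine ConcreteCategory.hom_ext _ _ fun s => ?_
  exact h U.unop s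

/-- The converse. -/
theorem appS_of_toSheaf_map_eq {M N : (Proj (gr n R)).Modules} (φ ψ : M ⟶ N) (c : R)
    (h : (SheafOfModules.toSheaf (Proj (gr n R)).ringCatSheaf).map ψ =
      (SheafOfModules.toSheaf (Proj (gr n R)).ringCatSheaf).map φ ≫
      Coh.smulAb N (Coh.toGlobal (X := Proj (gr n R)) (CohB1.ProjSpace.toSpec n R) c))
    (U : (Proj (gr n R)).Opens) (s : Sec M U) : appS ψ U s = sc c U • appS φ U s :=
  congrArg (fun f => f.hom.app (op U) s) h

theorem toSheaf_map_eq_comp {M N : (Proj (gr n R)).Modules} (φ ψ : M ⟶ N) (c : R)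
    (h : ∀ (U : (Proj (gr n R)).Opens) (s : Sec M U), appS ψ U s = sc c U • appS φ U s) :
    (SheafOfModules.toSheaf (Proj (gr n R)).ringCatSheaf).map ψ =
      (SheafOfModules.toSheaf (Proj (gr n R)).ringCatSheaf).map φ ≫
      Coh.smulAb N (Coh.toGlobal (X := Proj (gr n R)) (CohB1.ProjSpace.toSpec n R) c) := by
  refine Sheaf.hom_ext ?_
  refine NatTrans.ext (funext fun U => ?_)
  refine ConcreteCategory.hom_ext _ _ fun s => ?_
  exact h U.unop s

/-- The scalar matrix. -/
noncomputable def scm (ι : Type) [DecidableEq ι] (c : R) (i j : ι) : gr n R 0 := if i = j then cst c else 0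

theorem appS_gm_scm {ι : Type} [Finite ι] [DecidableEq ι] {m : ℤ} (h : m + (0 : ℕ) = m) (c : R)
    (U : (Proj (gr n R)).Opens) (s : Sec (OO n R ι m) U) : appS (gm h (scm ι c)) U s = sc c U • s := by
  have := Fintype.ofFinite ι
  refine val_ext fun x hx i => ?_
  rw [val_gm, val_smul, Pi.smul_apply, ev_sc, smul_eq_mul, Finset.sum_eq_single i]
  · rw [scm, if_pos rfl]
    rfl
  · intro j _ hj
    rw [scm, if_neg hj]
    exact (congrArg (· * _) (map_zero _)).trans (zero_mul _)
  · exact fun h => absurd (Finset.mem_univ i) h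

theorem appS_mulMap_cst {m : ℤ} (h : m + (0 : ℕ) = m) (c : R)
    (U : (Proj (gr n R)).Opens) (s : Sec (T n R m) U) : appS (mulMap (cst c) h) U s = sc c U • s :=
  evT_ext fun x hx => ((evT_mulMap (cst c) h s x hx).trans (congrArg (· * _) (ev_sc c U x hx).symm)).trans
    (evT_smul (sc c U) s x hx).symm

section Inj

variable [IsDomain R] {ι κ : Type} [Finite ι] [Finite κ] {m m' : ℤ} {d : ℕ}

theorem al_injective (x : ProjectiveSpectrum (gr n R)) : Function.Injective (al x) :=
  IsLocalization.injective (M := x.asHomogeneousIdeal.toIdeal.primeCompl) (Twist.Loc (gr n R) x)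
    (Ideal.primeCompl_le_nonZeroDivisors _)

end Inj

section Field

variable {k : Type u} [Field k] {ι κ : Type} [Finite ι] [Finite κ] {m m' : ℤ} {d : ℕ}

/-- A local generator of `O(m)` near a point. -/
theorem exists_frame (m : ℤ) : ∃ (x : ProjectiveSpectrum (gr n k)) (V : (Proj (gr n k)).Opens) (hx : x ∈ V)
    (s : Sec (T n k m) V), IsUnit (evT s x hx) := by
  let x := pt (n := n) (k := k) (fun _ => 1) (fun h => one_ne_zero (congrFun h 0))
  obtain ⟨f, W, hxW, hW⟩ := Ega3B.ProjFrame.coveredByOne n k x
  exact ⟨x, W, hxW, Ega2.TwistInv.powSec f m W hW,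
    Ega2.TwistBasic.isUnit_mk x _ _ (Ega2.TwistInv.powOne_notMem (hW x hxW) _) (Ega2.TwistInv.powOne_notMem (hW x hxW) _)⟩

theorem mulMap_injective (h : m + d = m') {a b : gr n k d} (hab : mulMap a h = mulMap b h) : a = b := by
  obtain ⟨x, V, hx, s, hs⟩ := exists_frame (n := n) (k := k) m
  have h1 := congrArg (fun φ => evT (appS φ V s) x hx) hab
  have h2 : al x a.1 * evT s x hx = al x b.1 * evT s x hx := h1
  exact Subtype.ext (al_injective x (hs.mul_left_injective h2))

theorem gm_injective (h : m + d = m') {A B : ι → κ → gr n k d} (hAB : gm h A = gm h B) : A = B := by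
  funext i j
  apply mulMap_injective h
  have h1 := congrArg (fun φ => biproduct.ι (fun _ : ι => T n k m) i ≫ φ ≫ biproduct.π (fun _ : κ => T n k m') j) hAB
  simpa [gm] using h1

theorem row_injective (h : m + d = m') {A B : ι → gr n k d} (hAB : row h A = row h B) : A = B := by
  funext i
  apply mulMap_injective h
  have h1 := congrArg (fun φ => biproduct.ι (fun _ : ι => T n k m) i ≫ φ) hAB
  simpa [row] using h1

theorem col_injective (h : m + d = m') {A B : ι → gr n k d} (hAB : col h A = col h B) : A = B := by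
  funext i
  apply mulMap_injective h
  have h1 := congrArg (fun φ => φ ≫ biproduct.π (fun _ : ι => T n k m') i) hAB
  simpa [col] using h1

/-- Coefficients of a linear form are determined. -/
theorem lf_injective {R : Type u} [CommRing R] {a b : Fin (n + 1) → R} (h : (lf a).1 = (lf b).1) : a = b := by
  funext i
  have h1 := congrArg (MvPolynomial.coeff (Finsupp.single i 1)) h
  have h2 : ∀ a : Fin (n + 1) → R, MvPolynomial.coeff (Finsupp.single i 1) (lf a).1 = a i := by
    intro a
    rw [lf_val, MvPolynomial.coeff_sum, Finset.sum_eq_single i]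
    · rw [MvPolynomial.coeff_C_mul, MvPolynomial.coeff_X, if_pos rfl, mul_one]
    · intro j _ hj
      rw [MvPolynomial.coeff_C_mul, MvPolynomial.coeff_X, if_neg, mul_zero]
      intro hc
      exact hj ((Finsupp.single_left_injective one_ne_zero) hc)
    · exact fun h => absurd (Finset.mem_univ i) h
  rwa [h2, h2] at h1

end Field

end K699.Scalar
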