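import Groth.Agent.VBPn.K699.LinForm
import Mathlib.LinearAlgebra.Matrix.Adjugate

/-!
# Square matrices of linear forms are invertible where the determinant does not vanish

* `isHomogeneous_det`, `detF`, `adjF`.
* `exists_solution`: `gm A` is surjective on sections over opens where `det A` does not vanish.
-/

set_option autoImplicit false

universe u

open CategoryTheory CategoryTheory.Limits AlgebraicGeometry Opposite TopologicalSpace

namespace K699.DetSurj

open Groth.Agent Groth.Agent.Divis.ProjPic Groth.Agent.VarietyB.TwistMul K699.TwHom Groth.Agent.Sga67.Sec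
open K699.GMat K699.LinForm

attribute [local instance] Abelian.hasFiniteBiproducts

theorem isHomogeneous_det {σ : Type*} {R : Type*} [CommRing R] {ι : Type*} [Fintype ι] [DecidableEq ι]
    (M : Matrix ι ι (MvPolynomial σ R)) (w : ι → ℕ) (h : ∀ i j, (M i j).IsHomogeneous (w i)) :
    M.det.IsHomogeneous (∑ i, w i) := by
  rw [Matrix.det_apply]
  refine MvPolynomial.IsHomogeneous.sum _ _ _ fun τ _ => ?_
  have h1 : (∏ i, M (τ i) i).IsHomogeneous (∑ i, w (τ i)) :=
    MvPolynomial.IsHomogeneous.prod _ _ _ fun i _ => h _ _
  rw [Equiv.sum_comp τ w] at h1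
  rcases Int.units_eq_one_or (Equiv.Perm.sign τ) with h2 | h2
  · rw [h2, one_smul]
    exact h1
  · rw [h2, Units.neg_smul, one_smul]
    exact h1.neg

variable {n : ℕ} {R : Type u} [CommRing R] {ι : Type} [Fintype ι] [DecidableEq ι]

/-- The matrix of polynomials. -/
noncomputable def mat (A : ι → ι → gr n R 1) : Matrix ι ι (MvPolynomial (Fin (n + 1)) R) := Matrix.of fun i j => (A i j).1

/-- The determinant as a form. -/
noncomputable def detF (A : ι → ι → gr n R 1) {N : ℕ} (hN : N = Fintype.card ι) : gr n R N :=
  ⟨(mat A).det, by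
    have h := isHomogeneous_det (mat A) (fun _ => 1) fun i j => (A i j).2
    rw [Finset.sum_const, Finset.card_univ, smul_eq_mul, mul_one, ← hN] at h
    exact h⟩

/-- The entries of the adjugate as forms. -/
noncomputable def adjF (A : ι → ι → gr n R 1) {N : ℕ} (hN : N + 1 = Fintype.card ι) (i j : ι) : gr n R N :=
  ⟨(mat A).adjugate i j, by
    rw [Matrix.adjugate_apply]
    have h := isHomogeneous_det ((mat A).updateRow j (Pi.single i 1)) (fun r => if r = j then 0 else 1) fun r s => by
      by_cases hr : r = j
      · subst hr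
        rw [if_pos rfl, Matrix.updateRow_self]
        by_cases hs : s = i
        · subst hs
          rw [Pi.single_eq_same]
          exact MvPolynomial.isHomogeneous_one _ _
        · rw [Pi.single_eq_of_ne hs]
          exact MvPolynomial.isHomogeneous_zero _ _ _
      · rw [if_neg hr, Matrix.updateRow_ne hr]
        exact (A r s).2
    have h2 : (∑ r : ι, if r = j then 0 else 1) = N := by
      rw [Finset.sum_ite, Finset.sum_const_zero, zero_add, Finset.sum_const, smul_eq_mul, mul_one,
        Finset.filter_ne', Finset.card_erase_of_mem (Finset.mem_univ j), Finset.card_univ]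
      omega
    rw [h2] at h
    exact h⟩

/-- `gm A` is surjective on sections where `det A` does not vanish. -/
theorem exists_solution (A : ι → ι → gr n R 1) {m m' : ℤ} (h : m + (1 : ℕ) = m') (V : (Proj (gr n R)).Opens)
    (hV : V ≤ Proj.basicOpen (gr n R) (mat A).det) (w : Sec (OO n R ι m') V) :
    ∃ v : Sec (OO n R ι m) V, appS (gm h A) V v = w := by
  by_cases hι : IsEmpty ι
  · refine ⟨0, val_ext fun x hx i => hι.elim i⟩
  rw [not_isEmpty_iff] at hι
  obtain ⟨N, hN⟩ : ∃ N, N + 1 = Fintype.card ι := ⟨Fintype.card ι - 1, by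
    have := Fintype.card_pos (α := ι)
    omega⟩
  let D := detF A (N := N + 1) hN
  have hD : D.1 = (mat A).det := rfl
  let z : Sec (OO n R ι (m' + N)) V := appS (gm rfl (adjF A hN)) V w
  have hb := mulMap_app_bijective D (show m + ((N + 1 : ℕ) : ℤ) = m' + N by push_cast; push_cast at h; omega) V hV
  choose t ht using fun i : ι => hb.2 (appS (pr _ i) V z)
  obtain ⟨v, hv⟩ := exists_sec t
  refine ⟨v, val_ext fun x hx i => ?_⟩
  have hu : IsUnit (al x D.1) :=
    IsLocalization.map_units (M := x.asHomogeneousIdeal.toIdeal.primeCompl) (Twist.Loc (gr n R) x) ⟨D.1, hV hx⟩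
  have ht' : ∀ j, al x D.1 * val v x hx j = ∑ c, al x ((mat A).adjugate c j) * val w x hx c := by
    intro j
    rw [hv]
    have h1 := congrArg (fun s => evT s x hx) (ht j)
    refine h1.trans ?_
    exact val_gm rfl (adjF A hN) w x hx j
  apply hu.mul_left_cancel
  rw [val_gm, Finset.mul_sum]
  have h1 : ∀ j, al x D.1 * (al x (A j i).1 * val v x hx j) =
      ∑ c, al x ((mat A).adjugate c j * mat A j i) * val w x hx c := by
    intro j
    rw [mul_left_comm, ht', Finset.mul_sum]
    refine Finset.sum_congr rfl fun c _ => ?_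
    rw [map_mul]
    change al x (A j i).1 * _ = _ * al x (A j i).1 * _
    ring
  rw [Finset.sum_congr rfl fun j _ => h1 j, Finset.sum_comm]
  have h2 : ∀ c, ∑ j, al x ((mat A).adjugate c j * mat A j i) * val w x hx c =
      if c = i then al x D.1 * val w x hx i else 0 := by
    intro c
    rw [← Finset.sum_mul, ← map_sum]
    have h3 : ∑ j, (mat A).adjugate c j * mat A j i = if c = i then (mat A).det else 0 := by
      have h4 := congrFun (congrFun (Matrix.adjugate_mul (mat A)) c) i
      rw [Matrix.mul_apply, Matrix.smul_apply, Matrix.one_apply, smul_eq_mul, mul_ite, mul_one, mul_zero] at h4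
      exact h4
    rw [h3]
    split_ifs with hc
    · rw [hc, hD]
    · rw [map_zero, zero_mul]
  rw [Finset.sum_congr rfl fun c _ => h2 c]
  simp

end K699.DetSurj
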