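import Groth.Agent.VBPn.K700.HDim
import Groth.Agent.Dix.Cast2

/-!
# `h¹` of sums of twists on the projective line and splitting types

* `h1_twist`, `h1_coprod`: `h¹(P^1, ⊕ O(b_i)) = Σ max(-b_i - 1, 0)`.
* `comb`: partial sums of a non-decreasing sequence in terms of `Σ_i max(m - a_i, 0)`.
-/

set_option autoImplicit false

universe u

open CategoryTheory CategoryTheory.Limits AlgebraicGeometry

namespace K699.H1P1

open Groth.Agent

variable (k : Type u) [Field k]

theorem h1_twist (b : ℤ) :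
    Module.Finite k (Coh.HH (CohB1.ProjSpace 1 k) (Twist.twistProjSpace 1 k b) 1) ∧
    Module.finrank k (Coh.HH (CohB1.ProjSpace 1 k) (Twist.twistProjSpace 1 k b) 1) = (-b - 1).toNat := by
  rcases le_or_gt (-1) b with h | h
  · have h1 := Groth.Agent.S0844.result k 1 b 1 (by omega) (by omega)
    refine ⟨inferInstance, ?_⟩
    rw [Module.finrank_zero_of_subsingleton]
    omega
  · obtain ⟨j, hj⟩ : ∃ j : ℕ, b = -(((1 : ℕ) : ℤ) + 1 + j) := ⟨(-b - 2).toNat, by omega⟩
    obtain ⟨e⟩ := Groth.Agent.S0845.result k 1 j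
    rw [← hj] at e
    have h2 := Dix.Cast2.finrank_homogeneous_two k j
    refine ⟨?_, ?_⟩
    · have : Module.Finite k ↥(MvPolynomial.homogeneousSubmodule (Fin 2) k j) := by
        refine Module.finite_of_finrank_pos ?_
        rw [h2]
        omega
      exact Module.Finite.equiv e.symm
    · rw [e.finrank_eq, h2]
      omega

theorem h1_coprod {r : ℕ} (b : Fin r → ℤ) :
    Module.finrank k (Coh.HH (CohB1.ProjSpace 1 k) (∐ fun i => Twist.twistProjSpace 1 k (b i)) 1) =
      ∑ i, (-b i - 1).toNat := by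
  have h1 := K700.HDim.fr_iso k (biproduct.isoCoproduct (fun i => Twist.twistProjSpace 1 k (b i))) 1
  have h2 := (K700.HDim.biprodEquiv k (fun i => Twist.twistProjSpace 1 k (b i)) 1).finrank_eq
  have h3 : ∀ i, Module.Finite k (Coh.HH (CohB1.ProjSpace 1 k) (Twist.twistProjSpace 1 k (b i)) 1) := fun i => (h1_twist k (b i)).1
  rw [Module.finrank_pi_fintype] at h2
  refine h1.symm.trans (h2.trans (Finset.sum_congr rfl fun i _ => (h1_twist k (b i)).2))

/-- Partial sums of a non-decreasing sequence. -/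
theorem comb {r : ℕ} (a : Fin r → ℤ) (ha : Monotone a) (α : Fin r → ℤ) :
    (∀ j, ∑ i ∈ Finset.Iic j, a i ≤ α j) ↔
      ∀ (m : ℤ) (j : Fin r), ((j : ℤ) + 1) * m - α j ≤ ((∑ i, (m - a i).toNat : ℕ) : ℤ) := by
  have hc : ∀ (j : Fin r) (m : ℤ), ∑ i ∈ Finset.Iic j, (m - a i) = ((j : ℤ) + 1) * m - ∑ i ∈ Finset.Iic j, a i := by
    intro j m
    rw [Finset.sum_sub_distrib, Finset.sum_const, Fin.card_Iic]
    simp
  constructor
  · intro h m j
    have h1 : ∑ i ∈ Finset.Iic j, (m - a i) ≤ ∑ i ∈ Finset.Iic j, (((m - a i).toNat : ℕ) : ℤ) :=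
      Finset.sum_le_sum fun i _ => Int.self_le_toNat _
    have h2 : ∑ i ∈ Finset.Iic j, (((m - a i).toNat : ℕ) : ℤ) ≤ ∑ i, (((m - a i).toNat : ℕ) : ℤ) :=
      Finset.sum_le_sum_of_subset_of_nonneg (Finset.subset_univ _) fun i _ _ => Int.natCast_nonneg _
    rw [hc] at h1
    have h3 := h j
    push_cast
    linarith
  · intro h j
    have h1 := h (a j) j
    have h2 : ((∑ i, (a j - a i).toNat : ℕ) : ℤ) = ∑ i ∈ Finset.Iic j, (a j - a i) := by
      push_cast
      symm
      refine Finset.sum_subset_zero_on_sdiff (Finset.subset_univ _) ?_ ?_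
      · intro i hi
        rw [Finset.mem_sdiff, Finset.mem_Iic, not_le] at hi
        have := ha hi.2.le
        rw [Int.toNat_of_nonpos (by linarith)]
        rfl
      · intro i hi
        rw [Finset.mem_Iic] at hi
        have := ha hi
        rw [Int.toNat_of_nonneg (by linarith)]
    rw [h2, hc] at h1
    linarith

end K699.H1P1
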