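import Groth.Agent.VBPn.K699.RankOO
import Groth.Agent.VarietyB.EulerBinom
import Groth.Agent.Dix.Cast2
import Groth.Agent.Dcoh.DualSum
import Groth.Agent.Ega2.TwistInv
import Groth.Prelude.Def_ModFun2

/-!
# Degrees of sums of twists on the projective line; semistable sums are balanced

* `euler_coprod`: additivity of `χ` on finite coproducts of coherent modules on `P^n`.
* `deg_twist`, `deg_coprod`: `deg O(a) = a`, `deg ⊕ O(a_i) = Σ a_i` on `P^1`.
* `exists_of_semistable`: if `E ≅ ⊕_{i < r} O(a_i)` is slope-semistable (`r > 0`) then `E ≅ O(m)^r`.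
-/

set_option autoImplicit false

universe u

open CategoryTheory CategoryTheory.Limits AlgebraicGeometry

namespace K699.SemiP1

open Groth.Agent Groth.Agent.Dcoh.DualSum Groth.Agent.VarietyB.EulerBinom

section Abstract

variable {C : Type*} [Category* C] [Preadditive C]

section

variable {r : ℕ} (B : Fin (r + 1) → C) [HasCoproduct B] [HasCoproduct fun i : Fin r => B i.succ]

/-- `∐_{i < r} B (i + 1) → ∐_{i < r + 1} B i`. -/
noncomputable def fm : (∐ fun i : Fin r => B i.succ) ⟶ ∐ B := Sigma.desc fun i => Sigma.ι B i.succ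

omit [Preadditive C] in
theorem ι_fm (i : Fin r) : Sigma.ι (fun i : Fin r => B i.succ) i ≫ fm B = Sigma.ι B i.succ := Sigma.ι_desc _ _

/-- The components of the retraction. -/
noncomputable def rc (i : Fin (r + 1)) : B i ⟶ ∐ fun i : Fin r => B i.succ :=
  Fin.cases (motive := fun i => B i ⟶ ∐ fun i : Fin r => B i.succ) 0 (fun i => Sigma.ι (fun i : Fin r => B i.succ) i) i

/-- The retraction of `fm`. -/
noncomputable def rm : (∐ B) ⟶ ∐ fun i : Fin r => B i.succ := Sigma.desc (rc B)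

theorem ι_rm_zero : Sigma.ι B 0 ≫ rm B = 0 := Sigma.ι_desc _ _

theorem ι_rm_succ (i : Fin r) : Sigma.ι B i.succ ≫ rm B = Sigma.ι (fun i : Fin r => B i.succ) i := Sigma.ι_desc _ _

theorem fm_rm : fm B ≫ rm B = 𝟙 _ := by
  apply Sigma.hom_ext
  intro i
  rw [← Category.assoc, ι_fm, ι_rm_succ, Category.comp_id]

theorem fm_π : fm B ≫ sigmaπ B 0 = 0 := by
  apply Sigma.hom_ext
  intro i
  rw [← Category.assoc, ι_fm, ι_sigmaπ_ne _ _ _ (Fin.succ_ne_zero i), comp_zero]

theorem rm_fm : rm B ≫ fm B + sigmaπ B 0 ≫ Sigma.ι B 0 = 𝟙 _ := by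
  apply Sigma.hom_ext
  intro i
  rw [Preadditive.comp_add, ← Category.assoc, ← Category.assoc, Category.comp_id]
  refine Fin.cases ?_ (fun i => ?_) i
  · rw [ι_rm_zero, ι_sigmaπ, zero_comp, zero_add, Category.id_comp]
  · rw [ι_rm_succ, ι_fm, ι_sigmaπ_ne _ _ _ (Fin.succ_ne_zero i), zero_comp, add_zero]

/-- `∐_{i < r} B (i + 1) → ∐_{i < r + 1} B i → B 0`. -/
noncomputable def sc : ShortComplex C := ShortComplex.mk (fm B) (sigmaπ B 0) (fm_π B)

noncomputable def splitting : (sc B).Splitting where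
  r := rm B
  s := Sigma.ι B 0
  f_r := fm_rm B
  s_g := ι_sigmaπ B 0
  id := rm_fm B

end

end Abstract

variable (k : Type u) [Field k] (n : ℕ)

theorem coh_coprod : ∀ (r : ℕ) (B : Fin r → (CohB1.ProjSpace n k).Modules), (∀ i, Coh.IsCoh (B i)) →
    Coh.IsCoh (∐ B) ∧ Curv2.euler k (CohB1.ProjSpace n k) (∐ B) = ∑ i, Curv2.euler k (CohB1.ProjSpace n k) (B i)
  | 0, B, _ => by
    have hz : IsZero (∐ B) := by
      rw [IsZero.iff_id_eq_zero]
      apply Sigma.hom_ext
      intro i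
      exact i.elim0
    have e : ∐ B ≅ FlatMod.freeMod (CohB1.ProjSpace n k) 0 := hz.iso Dcoh.ResFree.freeMod_zero_isZero
    have hc : Coh.IsCoh (∐ B) := Sga67.CohBasic.isCoh_of_iso e.symm (isCoh_free k n 0)
    refine ⟨hc, ?_⟩
    rw [Finset.univ_eq_empty, Finset.sum_empty]
    exact VarietyB.EulerDiff.e_zero (isAdd_euler k n) hz hc
  | r + 1, B, hB => by
    obtain ⟨h1, h2⟩ := coh_coprod r (fun i => B i.succ) fun i => hB i.succ
    have hS := (splitting B).shortExact
    have hc : Coh.IsCoh (∐ B) := by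
      refine Sga67.CohBasic.isCoh_of_iso ?_ (Sga67.CohBasic.isCoh_biprod h1 (hB 0))
      exact (splitting B).isoBinaryBiproduct.symm
    refine ⟨hc, ?_⟩
    rw [Fin.sum_univ_succ]
    have h3 := isAdd_euler k n (sc B) hS h1 hc (hB 0)
    change Curv2.euler k (CohB1.ProjSpace n k) (∐ B) = _ at h3
    rw [h3]
    change Curv2.euler k (CohB1.ProjSpace n k) (∐ fun i : Fin r => B i.succ) +
      Curv2.euler k (CohB1.ProjSpace n k) (B 0) = _
    rw [h2, add_comm]

theorem euler_twist_one (a : ℤ) : Curv2.euler k (CohB1.ProjSpace 1 k) (Twist.twistProjSpace 1 k a) = a + 1 := by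
  have hN : ∀ d : ℕ, N 1 d = d + 1 := fun d => by
    rw [← finrank_homogeneous k 1 d]
    exact Dix.Cast2.finrank_homogeneous_two k d
  rw [euler_twist, c, hN, hN]
  split_ifs with h1 h2
  · push_cast
    omega
  · push_cast
    omega
  · push_cast at h2
    omega

theorem euler_unit_one : Curv2.euler k (CohB1.ProjSpace 1 k) (Coh.structureModule (CohB1.ProjSpace 1 k)) = 1 := by
  obtain ⟨e⟩ := Ega2.TwistInv.nonempty_unit_iso (CohB1.polyGrading 1 k)
  exact (euler_iso k 1 e).trans ((euler_twist_one k 0).trans (by norm_num))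

theorem deg_twist (a : ℤ) : Curv2.deg k (CohB1.ProjSpace 1 k) (Twist.twistProjSpace 1 k a) 1 = a := by
  rw [Curv2.deg, euler_twist_one, euler_unit_one]
  push_cast
  ring

theorem deg_coprod {r : ℕ} (a : Fin r → ℤ) :
    Curv2.deg k (CohB1.ProjSpace 1 k) (∐ fun i => Twist.twistProjSpace 1 k (a i)) r = ∑ i, a i := by
  rw [Curv2.deg, euler_unit_one, (coh_coprod k 1 r _ fun i => ?_).2]
  · simp only [euler_twist_one]
    rw [Finset.sum_add_distrib]
    simp
  · have h : FlatMod.IsFinLocFreeOfRank 1 (Twist.twistProjSpace 1 k (a i)) := RankOO.rank_T (a i)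
    refine PerfA.CohSerre.isCoh_of_isFinLocFree fun x => ?_
    obtain ⟨U, hx, e⟩ := h x
    exact ⟨U, 1, hx, e⟩

theorem deg_iso {E F : (CohB1.ProjSpace 1 k).Modules} (e : E ≅ F) (r : ℕ) :
    Curv2.deg k (CohB1.ProjSpace 1 k) E r = Curv2.deg k (CohB1.ProjSpace 1 k) F r := by
  rw [Curv2.deg, Curv2.deg, euler_iso k 1 e]

theorem exists_of_semistable {r : ℕ} (hr : 0 < r) (a : Fin r → ℤ) {E : (CohB1.ProjSpace 1 k).Modules}
    (e : E ≅ ∐ fun i => Twist.twistProjSpace 1 k (a i)) (hss : ModFun.IsSlopeSemistable k (CohB1.ProjSpace 1 k) E r) :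
    ∃ m : ℤ, Nonempty (E ≅ ∐ fun _ : Fin r => Twist.twistProjSpace 1 k m) := by
  have h1 : ∀ j, a j * r ≤ ∑ i, a i := by
    intro j
    have hm : Mono (Sigma.ι (fun i => Twist.twistProjSpace 1 k (a i)) j ≫ e.inv) := by
      have : Mono (Sigma.ι (fun i => Twist.twistProjSpace 1 k (a i)) j) :=
        (SplitMono.mk (sigmaπ (fun i => Twist.twistProjSpace 1 k (a i)) j) (ι_sigmaπ _ j)).mono
      exact mono_comp _ _
    have h := hss (Twist.twistProjSpace 1 k (a j)) 1 _ hm one_pos (RankOO.rank_T (a j))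
    rw [deg_twist, deg_iso k e, deg_coprod] at h
    simpa using h
  have : Nonempty (Fin r) := ⟨⟨0, hr⟩⟩
  obtain ⟨j, hj⟩ := Finite.exists_max a
  have h2 : ∑ i, (a j - a i) ≤ 0 := by
    rw [Finset.sum_sub_distrib]
    have := h1 j
    simp
    linarith
  have h3 : ∀ i, a i = a j := by
    intro i
    have h4 := (Finset.sum_eq_zero_iff_of_nonneg (s := Finset.univ) (fun i _ => sub_nonneg.mpr (hj i))).mp
      (le_antisymm h2 (Finset.sum_nonneg fun i _ => sub_nonneg.mpr (hj i))) i (Finset.mem_univ i)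
    linarith
  exact ⟨a j, ⟨e ≪≫ Sigma.mapIso fun i => eqToIso (by rw [h3 i])⟩⟩

end K699.SemiP1
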