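import Groth.Agent.VBPn.K699.HiggsMain
import Groth.Agent.VBPn.K699.SemiP1
import Groth.Agent.Vancyc.H878.Triv

/-!
# Bundles semistable on all rational curves are sums of copies of a line bundle
-/

set_option autoImplicit false

universe u

open CategoryTheory Limits MonoidalCategory AlgebraicGeometry

namespace K699.HiggsFin

open Groth.Agent

open scoped Groth.Agent.Dcoh.MonCat

theorem final {k : Type u} [Field k] [IsAlgClosed k]
    (hsplit : ∀ (r : ℕ) (E : (CohB1.ProjSpace 1 k).Modules), FlatMod.IsFinLocFreeOfRank r E →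
      ∃ d : Fin r → ℤ, Nonempty (E ≅ ∐ fun i : Fin r => Twist.twistProjSpace 1 k (d i)))
    {X : Scheme.{u}} (π : X ⟶ Spec (CommRingCat.of k)) [IsIntegral X] [IsProper π]
    (htriv : ∀ (n : ℕ) (F : X.Modules), FlatMod.IsFinLocFreeOfRank n F →
      (∀ (f : CohB1.ProjSpace 1 k ⟶ X), f ≫ π = CohB1.ProjSpace.toSpec 1 k →
        Nonempty ((Scheme.Modules.pullback f).obj F ≅ FlatMod.freeMod (CohB1.ProjSpace 1 k) n)) →
      Nonempty (F ≅ FlatMod.freeMod X n))
    (r : ℕ) (hr : 0 < r) (E : X.Modules) (hE : FlatMod.IsFinLocFreeOfRank r E)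
    (hss : ∀ (f : CohB1.ProjSpace 1 k ⟶ X), f ≫ π = CohB1.ProjSpace.toSpec 1 k →
      ModFun.IsSlopeSemistable k (CohB1.ProjSpace 1 k) ((Scheme.Modules.pullback f).obj E) r) :
    ∃ L : X.Modules, PicF.IsInvertible L ∧ Nonempty (E ≅ ∐ fun _ : Fin r => L) := by
  obtain ⟨E', hE', ⟨P⟩⟩ := K708.Dual.exists_dual hE
  obtain ⟨θ⟩ := htriv (r * r) (CohB1.tensorMod E E')
    (Krr.H487.KerRank.isFinLocFreeOfRank_tensor hE hE') (fun f hf => by
      obtain ⟨d, ⟨e⟩⟩ := hsplit r _ (Vancyc.H878.Triv.isFinLocFreeOfRank_pullback f hE)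
      obtain ⟨m, ⟨i⟩⟩ := SemiP1.exists_of_semistable k hr d e (hss f hf)
      exact HiggsMain.nonempty_pull_end f E E' m r i)
  exact HiggsMain.main π hr E hE E' θ

end K699.HiggsFin
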