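import Mathlib.AlgebraicGeometry.AlgClosed.Basic
import Mathlib.AlgebraicGeometry.Morphisms.Proper
import Mathlib.AlgebraicGeometry.Morphisms.FiniteType

/-!
# Rational points of proper integral schemes over an algebraically closed field

`exists_pt`: there is a section `x` of `π : X ⟶ Spec k` and `Γ(X, O) → Γ(Spec k, O)` is bijective.
-/

set_option autoImplicit false

universe u

open CategoryTheory AlgebraicGeometry

namespace K699.PtSec

theorem bijective_appTop {k : Type u} [Field k] [IsAlgClosed k] {X : Scheme.{u}} [IsIntegral X]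
    (π : X ⟶ Spec (CommRingCat.of k)) [UniversallyClosed π] : Function.Bijective π.appTop.hom := by
  let F := (Scheme.ΓSpecIso (CommRingCat.of k)).inv ≫ π.appTop
  have h : F.hom.IsIntegral := by
    apply RingHom.isIntegral_respectsIso.2 (e := (Scheme.ΓSpecIso _).symm.commRingCatIsoToRingEquiv)
    exact isIntegral_appTop_of_universallyClosed π
  have : IsDomain Γ(X, ⊤) := inferInstance
  have h1 : Function.Bijective F.hom := IsAlgClosed.ringHom_bijective_of_isIntegral (k := k) F.hom h
  have h2 : (F.hom : k → Γ(X, ⊤)) = π.appTop.hom ∘ (Scheme.ΓSpecIso (CommRingCat.of k)).inv := rfl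
  rw [h2] at h1
  exact (Function.Bijective.of_comp_iff _ (ConcreteCategory.bijective_of_isIso
    (Scheme.ΓSpecIso (CommRingCat.of k)).inv)).1 h1

theorem exists_pt {k : Type u} [Field k] [IsAlgClosed k] {X : Scheme.{u}} [IsIntegral X]
    (π : X ⟶ Spec (CommRingCat.of k)) [IsProper π] :
    ∃ x : Spec (CommRingCat.of k) ⟶ X, x ≫ π = 𝟙 _ ∧ Function.Bijective x.appTop.hom := by
  have : JacobsonSpace X := LocallyOfFiniteType.jacobsonSpace π
  obtain ⟨p, -, hp⟩ := nonempty_inter_closedPoints (Set.univ_nonempty (α := X)) isClosed_univ.isLocallyClosed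
  let x := pointOfClosedPoint π p hp
  refine ⟨x, pointOfClosedPoint_comp π p hp, ?_⟩
  have h1 := bijective_appTop π
  have h2 : π.appTop ≫ x.appTop = 𝟙 _ := by
    rw [← Scheme.Hom.comp_appTop, pointOfClosedPoint_comp]
    rfl
  have h3 : (x.appTop.hom : Γ(X, ⊤) → _) ∘ (π.appTop.hom : _ → Γ(X, ⊤)) = id := by
    funext a
    exact congrArg (fun f => f.hom a) h2
  refine (Function.Bijective.of_comp_iff _ h1).1 ?_
  rw [h3]
  exact Function.bijective_id

end K699.PtSec
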