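import Groth.Agent.VBPn.K699.MatUnits
import Mathlib.CategoryTheory.Monoidal.Preadditive
import Mathlib.CategoryTheory.Monoidal.Rigid.Basic
import Mathlib.Logic.Equiv.Fin.Basic
import Mathlib.CategoryTheory.Adjunction.Unique
import Mathlib.Data.Fintype.BigOperators

/-!
# `E ⊗ E^∨` for a sum of copies of an invertible object

* `iso_of_ortho`: recognition of `∐_J B`.
* `nonempty_dual_iso`: a dual of an invertible object is an inverse.
* `nonempty_tensor_coprod`: `(∐_r L) ⊗ (∐_r L') ≅ ∐_{r * r} (L ⊗ L')`.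
* `nonempty_end`: `E ⊗ E' ≅ ∐_{r * r} 𝟙` if `E ≅ ∐_r L` with `L` invertible.
-/

set_option autoImplicit false

open CategoryTheory Limits MonoidalCategory

namespace K699.TensSum

open Groth.Agent Groth.Agent.Dcoh.DualSum

universe v u

variable {C : Type u} [Category.{v} C] [Preadditive C]

theorem iso_of_ortho {Z B : C} {J : Type} [Fintype J] [DecidableEq J] [HasCoproduct fun _ : J => B]
    (p : J → (Z ⟶ B)) (s : J → (B ⟶ Z)) (h : ∀ i j, s i ≫ p j = if i = j then 𝟙 B else 0)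
    (h1 : ∑ j, p j ≫ s j = 𝟙 Z) : Nonempty (Z ≅ ∐ fun _ : J => B) := by
  refine ⟨⟨∑ j, p j ≫ Sigma.ι (fun _ : J => B) j, Sigma.desc s, ?_, ?_⟩⟩
  · rw [Preadditive.sum_comp, ← h1]
    refine Finset.sum_congr rfl fun j _ => ?_
    rw [Category.assoc, Sigma.ι_desc]
  · apply Sigma.hom_ext
    intro j
    rw [← Category.assoc, Sigma.ι_desc, Category.comp_id, Preadditive.comp_sum]
    rw [Finset.sum_eq_single j]
    · rw [← Category.assoc, h, if_pos rfl, Category.id_comp]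
    · intro k _ hk
      rw [← Category.assoc, h, if_neg (Ne.symm hk), zero_comp]
    · intro h
      exact absurd (Finset.mem_univ _) h

theorem nonempty_coprod_coprod (B : C) (r n : ℕ) [HasCoproduct fun _ : Fin n => B]
    [HasCoproduct fun _ : Fin r => ∐ fun _ : Fin n => B] [HasCoproduct fun _ : Fin (r * n) => B] :
    Nonempty ((∐ fun _ : Fin r => ∐ fun _ : Fin n => B) ≅ ∐ fun _ : Fin (r * n) => B) := by
  let σ : Fin (r * n) ≃ Fin r × Fin n := finProdFinEquiv.symm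
  let M : C := ∐ fun _ : Fin n => B
  let a : Fin r → ((∐ fun _ : Fin r => M) ⟶ M) := sigmaπ (fun _ : Fin r => M)
  let b : Fin n → (M ⟶ B) := sigmaπ (fun _ : Fin n => B)
  let c : Fin r → (M ⟶ (∐ fun _ : Fin r => M)) := Sigma.ι (fun _ : Fin r => M)
  let d : Fin n → (B ⟶ M) := Sigma.ι (fun _ : Fin n => B)
  have hca : ∀ i j, c i ≫ a j = if i = j then 𝟙 M else 0 := by
    intro i j
    split_ifs with h
    · subst h
      exact ι_sigmaπ _ _
    · exact ι_sigmaπ_ne _ _ _ h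
  have hdb : ∀ i j, d i ≫ b j = if i = j then 𝟙 B else 0 := by
    intro i j
    split_ifs with h
    · subst h
      exact ι_sigmaπ _ _
    · exact ι_sigmaπ_ne _ _ _ h
  refine iso_of_ortho (fun j => a (σ j).1 ≫ b (σ j).2) (fun j => d (σ j).2 ≫ c (σ j).1) ?_ ?_
  · intro i j
    rw [Category.assoc, ← Category.assoc (c (σ i).1), hca]
    by_cases h2 : (σ i).1 = (σ j).1
    · rw [if_pos h2, Category.id_comp, hdb]
      by_cases h3 : (σ i).2 = (σ j).2
      · rw [if_pos h3, if_pos (σ.injective (Prod.ext h2 h3))]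
      · rw [if_neg h3, if_neg (fun h => h3 (by rw [h]))]
    · rw [if_neg h2, zero_comp, comp_zero, if_neg (fun h => h2 (by rw [h]))]
  · rw [σ.sum_comp (fun x : Fin r × Fin n => (a x.1 ≫ b x.2) ≫ (d x.2 ≫ c x.1)), Fintype.sum_prod_type]
    have hb : ∑ i, b i ≫ d i = 𝟙 _ := sum_sigmaπ _
    have ha : ∑ i, a i ≫ c i = 𝟙 _ := sum_sigmaπ _
    rw [← ha]
    refine Finset.sum_congr rfl fun i _ => ?_
    have h1 : ∀ j, (a i ≫ b j) ≫ (d j ≫ c i) = a i ≫ (b j ≫ d j) ≫ c i := fun j => by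
      simp only [Category.assoc]
    simp only [h1]
    rw [← Preadditive.comp_sum, ← Preadditive.sum_comp, hb, Category.id_comp]

variable [MonoidalCategory C]

omit [Preadditive C] in
/-- A dual of an invertible object is an inverse. -/
theorem nonempty_dual_iso (L N L' : C) (e : L ⊗ N ≅ 𝟙_ C) (e' : N ⊗ L ≅ 𝟙_ C) [ExactPairing L L'] :
    Nonempty (L' ≅ N) := by
  let E : C ≌ C := CategoryTheory.Equivalence.mk (tensorRight L) (tensorRight N)
    (((tensorRightTensor L N).symm ≪≫ (tensoringRight C).mapIso e ≪≫ rightUnitorNatIso C).symm)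
    ((tensorRightTensor N L).symm ≪≫ (tensoringRight C).mapIso e' ≪≫ rightUnitorNatIso C)
  let adj : tensorRight L ⊣ tensorRight N := E.toAdjunction
  let adj' : tensorRight L ⊣ tensorRight L' := tensorRightAdjunction L L'
  exact ⟨(λ_ L').symm ≪≫ (adj'.rightAdjointUniq adj).app (𝟙_ C) ≪≫ λ_ N⟩

variable [MonoidalPreadditive C]

theorem nonempty_tensor_coprod (L L' B : C) (θ : L ⊗ L' ≅ B) (r : ℕ) [HasCoproduct fun _ : Fin r => L]
    [HasCoproduct fun _ : Fin r => L'] [HasCoproduct fun _ : Fin (r * r) => B] :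
    Nonempty ((∐ fun _ : Fin r => L) ⊗ (∐ fun _ : Fin r => L') ≅ ∐ fun _ : Fin (r * r) => B) := by
  let σ : Fin (r * r) ≃ Fin r × Fin r := finProdFinEquiv.symm
  let a : Fin r → ((∐ fun _ : Fin r => L) ⟶ L) := sigmaπ (fun _ : Fin r => L)
  let b : Fin r → ((∐ fun _ : Fin r => L') ⟶ L') := sigmaπ (fun _ : Fin r => L')
  let c : Fin r → (L ⟶ (∐ fun _ : Fin r => L)) := Sigma.ι (fun _ : Fin r => L)
  let d : Fin r → (L' ⟶ (∐ fun _ : Fin r => L')) := Sigma.ι (fun _ : Fin r => L')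
  have hca : ∀ i j, c i ≫ a j = if i = j then 𝟙 L else 0 := by
    intro i j
    split_ifs with h
    · subst h
      exact ι_sigmaπ _ _
    · exact ι_sigmaπ_ne _ _ _ h
  have hdb : ∀ i j, d i ≫ b j = if i = j then 𝟙 L' else 0 := by
    intro i j
    split_ifs with h
    · subst h
      exact ι_sigmaπ _ _
    · exact ι_sigmaπ_ne _ _ _ h
  refine iso_of_ortho (fun j => (a (σ j).1 ⊗ₘ b (σ j).2) ≫ θ.hom) (fun j => θ.inv ≫ (c (σ j).1 ⊗ₘ d (σ j).2)) ?_ ?_
  · intro i j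
    rw [Category.assoc, ← Category.assoc (c (σ i).1 ⊗ₘ d (σ i).2), tensorHom_comp_tensorHom, hca, hdb]
    by_cases h : i = j
    · subst h
      rw [if_pos rfl, if_pos rfl, if_pos rfl, id_tensorHom_id, Category.id_comp, θ.inv_hom_id]
    · rw [if_neg h]
      by_cases h2 : (σ i).1 = (σ j).1
      · have h3 : (σ i).2 ≠ (σ j).2 := fun h3 => h (σ.injective (Prod.ext h2 h3))
        rw [if_neg h3, MonoidalPreadditive.tensor_zero, zero_comp, comp_zero]
      · rw [if_neg h2, MonoidalPreadditive.zero_tensor, zero_comp, comp_zero]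
  · have h1 : ∀ j, ((a (σ j).1 ⊗ₘ b (σ j).2) ≫ θ.hom) ≫ (θ.inv ≫ (c (σ j).1 ⊗ₘ d (σ j).2)) =
        ((a (σ j).1 ≫ c (σ j).1) ⊗ₘ (b (σ j).2 ≫ d (σ j).2)) := by
      intro j
      rw [Category.assoc, θ.hom_inv_id_assoc, tensorHom_comp_tensorHom]
    simp only [h1]
    rw [σ.sum_comp (fun x : Fin r × Fin r => ((a x.1 ≫ c x.1) ⊗ₘ (b x.2 ≫ d x.2))), Fintype.sum_prod_type]
    simp only [← tensor_sum]
    rw [← sum_tensor]
    have ha : ∑ i, a i ≫ c i = 𝟙 _ := sum_sigmaπ _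
    have hb : ∑ i, b i ≫ d i = 𝟙 _ := sum_sigmaπ _
    rw [ha, hb, id_tensorHom_id]

theorem nonempty_end (E E' L L' : C) [ExactPairing E E'] [ExactPairing L L'] (N : C) (e : L ⊗ N ≅ 𝟙_ C) (e' : N ⊗ L ≅ 𝟙_ C)
    (r : ℕ) [HasCoproduct fun _ : Fin r => L] [HasCoproduct fun _ : Fin r => L'] [HasCoproduct fun _ : Fin (r * r) => 𝟙_ C]
    (i : E ≅ ∐ fun _ : Fin r => L) : Nonempty (E ⊗ E' ≅ ∐ fun _ : Fin (r * r) => 𝟙_ C) := by
  obtain ⟨φ⟩ := nonempty_dual_iso L N L' e e'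
  let P : ExactPairing (∐ fun _ : Fin r => L) (∐ fun _ : Fin r => L') :=
    exactPairingCoprod (fun _ : Fin r => L) (fun _ : Fin r => L')
  let Q : ExactPairing E (∐ fun _ : Fin r => L') := exactPairingCongrLeft i
  let ψ : E' ≅ ∐ fun _ : Fin r => L' := rightDualIso (X := E) inferInstance Q
  obtain ⟨χ⟩ := nonempty_tensor_coprod L L' (𝟙_ C) (whiskerLeftIso L φ ≪≫ e) r
  exact ⟨(i ⊗ᵢ ψ) ≪≫ χ⟩

end K699.TensSum
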