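import Groth.Agent.VBPn.K699.PullEnd
import Groth.Agent.VBPn.K699.TensSum
import Groth.Agent.VBPn.K699.PtSec
import Groth.Agent.VBPn.K699.RankOO
import Groth.Agent.VBCurve.K708.Dual
import Groth.Agent.PicF.K248.Basic
import Groth.Agent.Krr.H487.KerRank
import Groth.Agent.Dcoh.Spread
import Groth.Agent.Dcoh.MonDual

import Groth.Agent.Sga67.SerreVB
import Groth.Agent.Ega2.TwistInv

/-!
# Bundles with trivial endomorphism bundle on all rational curves
-/

set_option autoImplicit false

universe u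

open CategoryTheory Limits MonoidalCategory AlgebraicGeometry

namespace K699.HiggsMain

open Groth.Agent Groth.Agent.Dcoh.DualSum K699.MatUnits K699.TensSum

section Rank

variable {X : Scheme.{u}}

/-- If `∐_r L` has rank `r > 0` and `L` is finite locally free then `L` is invertible. -/
theorem isInvertible_of_coprod {E L : X.Modules} {r : ℕ} (hr : 0 < r) (hE : FlatMod.IsFinLocFreeOfRank r E)
    (hL : FlatMod.IsFinLocFree L) (e : E ≅ ∐ fun _ : Fin r => L) : PicF.IsInvertible L := by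
  rw [← Ega2.QCohLocal.isFinLocFreeOfRank_one_iff]
  intro x
  obtain ⟨U, n, hxU, ⟨a⟩⟩ := hL x
  obtain ⟨V, hxV, ⟨b⟩⟩ := hE x
  refine ⟨U, hxU, ?_⟩
  have hn : n = 1 := by
    let W : X.Opens := U ⊓ V
    have hx : x ∈ W := ⟨hxU, hxV⟩
    obtain ⟨e₁⟩ := K248.Basic.pull_free W.ι U (by
      rintro _ ⟨v, rfl⟩
      exact v.2.1) a
    obtain ⟨e₂⟩ := K248.Basic.pull_free W.ι V (by
      rintro _ ⟨v, rfl⟩
      exact v.2.2) b
    obtain ⟨e₃⟩ := nonempty_coprod_coprod (Coh.structureModule (W : Scheme.{u})) r n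
    have e₄ : FlatMod.freeMod (W : Scheme.{u}) r ≅ FlatMod.freeMod (W : Scheme.{u}) (r * n) :=
      e₂.symm ≪≫ (Scheme.Modules.pullback W.ι).mapIso e ≪≫ (PreservesCoproduct.iso (Scheme.Modules.pullback W.ι) _) ≪≫
        Sigma.mapIso (fun _ => e₁) ≪≫ e₃
    have h := PerfB.FreeRank.rank_eq (⟨x, hx⟩ : W) e₄
    have h2 : r * 1 = r * n := by omega
    exact (Nat.eq_of_mul_eq_mul_left hr h2).symm
  subst hn
  exact ⟨a⟩

end Rank

section End

open scoped Groth.Agent.Dcoh.MonCat
open Groth.Agent.Dcoh.MonPull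

theorem nonempty_unit (n : ℕ) (k : Type u) [Field k] (i j : ℤ) (h : i + j = 0) :
    Nonempty (CohB1.tensorMod (Twist.twistProjSpace n k i) (Twist.twistProjSpace n k j) ≅
      Coh.structureModule (CohB1.ProjSpace n k)) := by
  obtain ⟨e⟩ := Sga67.SerreVB.nonempty_twist_mul (r := n) (A := k) i j
  obtain ⟨e'⟩ := Ega2.TwistInv.nonempty_unit_iso (CohB1.polyGrading n k)
  rw [h] at e
  exact ⟨e ≪≫ e'.symm⟩

/-- `g^*(E ⊗ E^∨)` is free if `g^*E` is a sum of copies of `O(m)` on projective space. -/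
theorem nonempty_pull_end {X : Scheme.{u}} {k : Type u} [Field k] {n : ℕ} (g : CohB1.ProjSpace n k ⟶ X) (E E' : X.Modules)
    [ExactPairing E E'] (m : ℤ) (r : ℕ)
    (i : (Scheme.Modules.pullback g).obj E ≅ ∐ fun _ : Fin r => Twist.twistProjSpace n k m) :
    Nonempty ((Scheme.Modules.pullback g).obj (CohB1.tensorMod E E') ≅ FlatMod.freeMod (CohB1.ProjSpace n k) (r * r)) := by
  let L : (CohB1.ProjSpace n k).Modules := Twist.twistProjSpace n k m
  let N : (CohB1.ProjSpace n k).Modules := Twist.twistProjSpace n k (-m)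
  have hL : FlatMod.IsFinLocFreeOfRank 1 L := RankOO.rank_T m
  obtain ⟨L', -, ⟨P⟩⟩ := K708.Dual.exists_dual hL
  obtain ⟨e⟩ := nonempty_unit n k m (-m) (by omega)
  obtain ⟨e'⟩ := nonempty_unit n k (-m) m (by omega)
  let Q : ExactPairing ((Scheme.Modules.pullback g).obj E) ((Scheme.Modules.pullback g).obj E') :=
    Dcoh.MonDual.mapExactPairing (Scheme.Modules.pullback g) E E'
  obtain ⟨θ⟩ := nonempty_end ((Scheme.Modules.pullback g).obj E) ((Scheme.Modules.pullback g).obj E') L L' N e e' r i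
  exact ⟨(Functor.Monoidal.μIso (Scheme.Modules.pullback g) E E').symm ≪≫ θ⟩

theorem main {k : Type u} [Field k] [IsAlgClosed k] {X : Scheme.{u}} (π : X ⟶ Spec (CommRingCat.of k)) [IsIntegral X]
    [IsProper π] {r : ℕ} (hr : 0 < r) (E : X.Modules) (hE : FlatMod.IsFinLocFreeOfRank r E)
    (E' : X.Modules) [ExactPairing E E'] (θ : E ⊗ E' ≅ FlatMod.freeMod X (r * r)) :
    ∃ L : X.Modules, PicF.IsInvertible L ∧ Nonempty (E ≅ ∐ fun _ : Fin r => L) := by
  obtain ⟨x, -, hx⟩ := PtSec.exists_pt π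
  have hb := PullEnd.map_end_bijective x hx E E' θ
  obtain ⟨a⟩ : Nonempty ((Scheme.Modules.pullback x).obj E ≅ FlatMod.freeMod (Spec (CommRingCat.of k)) r) := by
    have : Subsingleton (Spec (CommRingCat.of k)) := inferInstanceAs (Subsingleton (PrimeSpectrum k))
    obtain ⟨z⟩ : Nonempty (Spec (CommRingCat.of k)) := inferInstanceAs (Nonempty (PrimeSpectrum k))
    obtain ⟨U, hU, ⟨b⟩⟩ := hE (x z)
    refine K248.Basic.pull_free x U ?_ b
    rintro _ ⟨v, rfl⟩
    rw [Subsingleton.elim v z]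
    exact hU
  let Φ : (E ⟶ E) → ((Scheme.Modules.pullback x).obj E ⟶ (Scheme.Modules.pullback x).obj E) := (Scheme.Modules.pullback x).map
  let m : Fin r → Fin r → ((Scheme.Modules.pullback x).obj E ⟶ (Scheme.Modules.pullback x).obj E) := fun i j =>
    a.hom ≫ matUnit (Coh.structureModule (Spec (CommRingCat.of k))) r i j ≫ a.inv
  choose e he using fun i j => hb.2 (m i j)
  have he' : ∀ i j, (Scheme.Modules.pullback x).map (e i j) = m i j := he
  obtain ⟨L, i, p, hip, ⟨b⟩⟩ := exists_iso_of_matrixUnits (C := X.Modules) (E := E) hr (fun L => inferInstance) e (by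
    intro i j j' l
    apply hb.1
    rw [Functor.map_comp, he', he']
    have h1 : m i j ≫ m j' l = a.hom ≫ (matUnit (Coh.structureModule (Spec (CommRingCat.of k))) r i j ≫
        matUnit (Coh.structureModule (Spec (CommRingCat.of k))) r j' l) ≫ a.inv := by
      simp only [m, Category.assoc, Iso.inv_hom_id_assoc]
    rw [h1, matUnit_comp]
    split_ifs with h
    · exact (he' i l).symm
    · rw [zero_comp, comp_zero, Functor.map_zero]) (by
    apply hb.1
    rw [Functor.map_sum, CategoryTheory.Functor.map_id]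
    simp only [he', m]
    rw [← Preadditive.comp_sum, ← Preadditive.sum_comp, sum_matUnit, Category.id_comp, Iso.hom_inv_id])
  have hE0 : FlatMod.IsFinLocFree E := fun x => by
    obtain ⟨U, hx, e⟩ := hE x
    exact ⟨U, r, hx, e⟩
  have hL := Dcoh.Spread.isFinLocFree_of_retract i p hip hE0
  exact ⟨L, isInvertible_of_coprod hr hE hL b, ⟨b⟩⟩

end End

end K699.HiggsMain
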