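import Groth.Agent.VBPn.K699.H1P1
import Groth.Agent.Krr.H465.ProjBase
import Groth.Agent.Ega3A.PChart
import Groth.Agent.Pic13.H952.FibrePt
import Groth.Agent.PerfC.RelFlat
import Groth.Agent.Dcoh.Spread
import Groth.Agent.Dix.ProjProper
import Groth.Agent.Desc.FinLocFreeSections
import Groth.Agent.Sga67.SerreVB
import Groth.Agent.Dcoh.MonPull2_292
import Groth.Agent.Vancyc.H878.Triv
import Groth.Agent.Krr.H487.KerRank
import Groth.Agent.VBPn.K699.RankOO
import Groth.Agent.S1025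

/-!
# Splitting types on the fibres of `P^1_B → B`

* `nonempty_iff`: splitting of `E_t` on `P^1_{Spec κ(t)}` and on `P^1_{κ(t)}`.
* `betti_eq`: `h¹(E_t(m)) = Σ max(-a_i - m - 1, 0)`.
* `main`: the locus where the splitting type is dominated by a given sequence is closed.
-/

set_option autoImplicit false

universe u

open CategoryTheory CategoryTheory.Limits AlgebraicGeometry

namespace K699.JumpFib

open Groth.Agent Groth.Agent.CohqB.ProjBC

theorem nonempty_of_pullback {X Y : Scheme.{u}} (q : X ⟶ Y) [IsIso q] {M N : Y.Modules}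
    (h : Nonempty ((Scheme.Modules.pullback q).obj M ≅ (Scheme.Modules.pullback q).obj N)) : Nonempty (M ≅ N) := by
  obtain ⟨e⟩ := h
  have c : ∀ M : Y.Modules, Nonempty ((Scheme.Modules.pullback (inv q)).obj ((Scheme.Modules.pullback q).obj M) ≅ M) := fun M =>
    ⟨(Scheme.Modules.pullbackComp (inv q) q).app M ≪≫ (Scheme.Modules.pullbackCongr (IsIso.inv_hom_id q)).app M ≪≫
      (Scheme.Modules.pullbackId Y).app M⟩
  obtain ⟨c₁⟩ := c M
  obtain ⟨c₂⟩ := c N
  exact ⟨c₁.symm ≪≫ (Scheme.Modules.pullback (inv q)).mapIso e ≪≫ c₂⟩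

theorem nonempty_pull_inv (n : ℕ) (A : Type u) [CommRing A] (d : ℤ) :
    Nonempty ((Scheme.Modules.pullback (projSpaceOverIso n A).inv).obj (Twist.twistOver n (Spec (CommRingCat.of A)) d) ≅
      Twist.twistProjSpace n A d) :=
  ⟨(Scheme.Modules.pullbackComp _ _).app _ ≪≫
    (Scheme.Modules.pullbackCongr (Ega3A.PChart.projSpaceOverIso_inv_fstZ n A)).app _ ≪≫
      Ega3A.PChart.pullTwistIso (Ega3A.PChart.zmap A) n d⟩

variable {B : Scheme.{u}} (t : B)

/-- The fibre `P^1_{κ(t)} ⟶ P^1_B`. -/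
noncomputable def ch : CohB1.ProjSpace 1 (B.residueField t) ⟶ CohB1.ProjSpaceOver 1 B :=
  Ega3A.PChart.chart 1 (A := B.residueField t) (B.fromSpecResidueField t)

theorem isPullback_ch : IsPullback (ch t) (CohB1.ProjSpace 1 (B.residueField t) ↘ Spec (CommRingCat.of (B.residueField t)))
    (KRR.pr 1 B) (B.fromSpecResidueField t) :=
  Ega3A.PChart.isPullback_chart 1 (A := B.residueField t) (B.fromSpecResidueField t)

theorem nonempty_pull_ch (E : (CohB1.ProjSpaceOver 1 B).Modules) :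
    Nonempty ((Scheme.Modules.pullback (ch t)).obj E ≅
      (Scheme.Modules.pullback (projSpaceOverIso 1 (B.residueField t)).inv).obj
        ((Scheme.Modules.pullback (KRR.projSpaceMap 1 (B.fromSpecResidueField t))).obj E)) := by
  rw [Krr.H465.ProjBase.projSpaceMap_eq_overMap]
  exact ⟨((Scheme.Modules.pullbackComp _ _).app E).symm⟩

theorem nonempty_iff (E : (CohB1.ProjSpaceOver 1 B).Modules) {r : ℕ} (a : Fin r → ℤ) :
    Nonempty ((Scheme.Modules.pullback (KRR.projSpaceMap 1 (B.fromSpecResidueField t))).obj E ≅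
      ∐ fun i : Fin r => Twist.twistOver 1 (Spec (B.residueField t)) (a i)) ↔
    Nonempty ((Scheme.Modules.pullback (ch t)).obj E ≅ ∐ fun i : Fin r => Twist.twistProjSpace 1 (B.residueField t) (a i)) := by
  obtain ⟨c⟩ := nonempty_pull_ch t E
  have d := fun i => nonempty_pull_inv 1 (B.residueField t) (a i)
  have e : (Scheme.Modules.pullback (projSpaceOverIso 1 (B.residueField t)).inv).obj
      (∐ fun i : Fin r => Twist.twistOver 1 (Spec (B.residueField t)) (a i)) ≅
      ∐ fun i : Fin r => Twist.twistProjSpace 1 (B.residueField t) (a i) :=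
    (PreservesCoproduct.iso (Scheme.Modules.pullback (projSpaceOverIso 1 (B.residueField t)).inv) _) ≪≫
      Sigma.mapIso fun i => (d i).some
  constructor
  · rintro ⟨h⟩
    exact ⟨c ≪≫ (Scheme.Modules.pullback _).mapIso h ≪≫ e⟩
  · rintro ⟨h⟩
    exact nonempty_of_pullback (projSpaceOverIso 1 (B.residueField t)).inv ⟨c.symm ≪≫ h ≪≫ e.symm⟩

section Tensor

open scoped Groth.Agent.Dcoh.MonCat
open Groth.Agent.Dcoh.MonPull

theorem tensIso {X : Scheme.{u}} {P P' Q Q' : X.Modules} (h : P ≅ P') (d : Q ≅ Q') :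
    Nonempty (CohB1.tensorMod P Q ≅ CohB1.tensorMod P' Q') := ⟨MonoidalCategory.tensorIso h d⟩

theorem pullTens {X Y : Scheme.{u}} (g : X ⟶ Y) (P Q : Y.Modules) :
    Nonempty ((Scheme.Modules.pullback g).obj (CohB1.tensorMod P Q) ≅
      CohB1.tensorMod ((Scheme.Modules.pullback g).obj P) ((Scheme.Modules.pullback g).obj Q)) :=
  ⟨(Functor.Monoidal.μIso (Scheme.Modules.pullback g) P Q).symm⟩

theorem sigmaTens {X : Scheme.{u}} {ι : Type} [Finite ι] (P : ι → X.Modules) (Q : X.Modules) :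
    Nonempty (CohB1.tensorMod (∐ P) Q ≅ ∐ fun i => CohB1.tensorMod (P i) Q) :=
  ⟨(DCoh.tensorRightMod Q).mapIso (biproduct.isoCoproduct P).symm ≪≫
      (DCoh.tensorRightMod Q).mapBiproduct P ≪≫ biproduct.isoCoproduct _⟩

theorem nonempty_pull_tensor (E : (CohB1.ProjSpaceOver 1 B).Modules) {r : ℕ} (a : Fin r → ℤ) (m : ℤ)
    (h : Nonempty ((Scheme.Modules.pullback (ch t)).obj E ≅
      ∐ fun i : Fin r => Twist.twistProjSpace 1 (B.residueField t) (a i))) :
    Nonempty ((Scheme.Modules.pullback (ch t)).obj (CohB1.tensorMod E (Twist.twistOver 1 B m)) ≅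
      ∐ fun i : Fin r => Twist.twistProjSpace 1 (B.residueField t) (a i + m)) := by
  obtain ⟨h⟩ := h
  let d : (Scheme.Modules.pullback (ch t)).obj (Twist.twistOver 1 B m) ≅ Twist.twistProjSpace 1 (B.residueField t) m :=
    Ega3A.PChart.chartTwistIso 1 (A := B.residueField t) (B.fromSpecResidueField t) m
  have f := fun i => Sga67.SerreVB.nonempty_twist_mul (r := 1) (A := B.residueField t) (a i) m
  obtain ⟨e0⟩ := pullTens (ch t) E (Twist.twistOver 1 B m)
  obtain ⟨e1⟩ := tensIso h d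
  obtain ⟨e2⟩ := sigmaTens (fun i : Fin r => Twist.twistProjSpace 1 (B.residueField t) (a i)) (Twist.twistProjSpace 1 (B.residueField t) m)
  exact ⟨e0 ≪≫ e1 ≪≫ e2 ≪≫ Sigma.mapIso fun i => (f i).some⟩

end Tensor

theorem flf_of_rank {X : Scheme.{u}} {r : ℕ} {E : X.Modules} (hE : FlatMod.IsFinLocFreeOfRank r E) :
    FlatMod.IsFinLocFree E := fun x => by
  obtain ⟨U, hx, e⟩ := hE x
  exact ⟨U, r, hx, e⟩

theorem flf_tensor {B : Scheme.{u}} {r : ℕ} {E : (CohB1.ProjSpaceOver 1 B).Modules} (hE : FlatMod.IsFinLocFreeOfRank r E)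
    (m : ℤ) : FlatMod.IsFinLocFree (CohB1.tensorMod E (Twist.twistOver 1 B m)) :=
  flf_of_rank (Krr.H487.KerRank.isFinLocFreeOfRank_tensor hE
    (Vancyc.H878.Triv.isFinLocFreeOfRank_pullback _ (RankOO.rank_T m)))

theorem isQCoh_of_flf {X : Scheme.{u}} {E : X.Modules} (hE : FlatMod.IsFinLocFree E) : Coh.IsQCoh E :=
  Ega2.QCohLocal.isQCoh_of_isFinLocFree hE

theorem betti_eq {r : ℕ} {E : (CohB1.ProjSpaceOver 1 B).Modules} (hE : FlatMod.IsFinLocFreeOfRank r E) (a : Fin r → ℤ)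
    (h : Nonempty ((Scheme.Modules.pullback (ch t)).obj E ≅
      ∐ fun i : Fin r => Twist.twistProjSpace 1 (B.residueField t) (a i))) (m : ℤ) :
    PerfAux.betti (KRR.pr 1 B) (CohB1.tensorMod E (Twist.twistOver 1 B m)) t 1 = ∑ i, (-(a i + m) - 1).toNat := by
  obtain ⟨e⟩ := nonempty_pull_tensor t E a m h
  have hp : IsProper (KRR.pr 1 B) := Dix.ProjProper.isProper_toBase 1 B
  have hr : t ∈ Set.range (B.fromSpecResidueField t) := by
    rw [Scheme.range_fromSpecResidueField]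
    exact Set.mem_singleton t
  rw [← Pic13.H952.FibrePt.finrank_eq_betti (k := B.residueField t) (KRR.pr 1 B) (B.fromSpecResidueField t) (ch t) (isPullback_ch t) t hr _
    (isQCoh_of_flf (flf_tensor hE m)) 1]
  exact (K700.HDim.fr_iso (B.residueField t) e 1).trans (H1P1.h1_coprod (B.residueField t) fun i => a i + m)

theorem main (hsplit : ∀ (κ : Type u) [Field κ] (r : ℕ) (E : (CohB1.ProjSpace 1 κ).Modules), FlatMod.IsFinLocFreeOfRank r E →
      ∃ d : Fin r → ℤ, Antitone d ∧ Nonempty (E ≅ ∐ fun i : Fin r => Twist.twistProjSpace 1 κ (d i)))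
    (B : Scheme.{u}) (r : ℕ) (E : (CohB1.ProjSpaceOver 1 B).Modules)
    (hE : FlatMod.IsFinLocFreeOfRank r E) (a : Fin r → ℤ) :
    ∃ Z : Set ↥B, IsClosed Z ∧ ∀ t : ↥B,
      (t ∈ Z ↔ ∃ a' : Fin r → ℤ, Monotone a' ∧
        (∀ j : Fin r, ∑ i ∈ Finset.Iic j, a' i ≤ ∑ i ∈ Finset.Iic j, a i) ∧
        Nonempty ((Scheme.Modules.pullback (KRR.projSpaceMap 1 (B.fromSpecResidueField t))).obj E ≅
          ∐ fun i : Fin r => Twist.twistOver 1 (Spec (B.residueField t)) (a' i))) := by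
  have hp : IsProper (KRR.pr 1 B) := Dix.ProjProper.isProper_toBase 1 B
  have hfl : Flat (KRR.pr 1 B) := Krr.H465.ProjBase.flat_pr 1 B
  have hlp : LocallyOfFinitePresentation (KRR.pr 1 B) := by
    have h1 : Smooth (CohB1.ProjSpace.toSpec 1 (ULift.{u} ℤ)) := by
      have := Groth.Agent.Sga5.ProjSmooth.smooth_toSpec 1 (ULift.{u} ℤ)
      exact SmoothOfRelativeDimension.smooth 1 _
    have h2 : LocallyOfFinitePresentation (CohB1.ProjSpace.toSpec 1 (ULift.{u} ℤ)) := inferInstance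
    exact MorphismProperty.of_isPullback (P := @LocallyOfFinitePresentation) (isPullback_fstZ 1 B) h2
  let α : Fin r → ℤ := fun j => ∑ i ∈ Finset.Iic j, a i
  let M : ℤ → (CohB1.ProjSpaceOver 1 B).Modules := fun m => CohB1.tensorMod E (Twist.twistOver 1 B (-m - 1))
  let Z : Set B := {t | ∀ (m : ℤ) (j : Fin r), ((j : ℤ) + 1) * m - α j ≤ (PerfAux.betti (KRR.pr 1 B) (M m) t 1 : ℤ)}
  have key : ∀ (t : B) (a' : Fin r → ℤ), Monotone a' → Nonempty ((Scheme.Modules.pullback (ch t)).obj E ≅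
      ∐ fun i : Fin r => Twist.twistProjSpace 1 (B.residueField t) (a' i)) →
      (t ∈ Z ↔ ∀ j : Fin r, ∑ i ∈ Finset.Iic j, a' i ≤ α j) := by
    intro t a' ha' h
    rw [H1P1.comb a' ha' α]
    refine forall_congr' fun m => forall_congr' fun j => ?_
    have h1 : PerfAux.betti (KRR.pr 1 B) (M m) t 1 = ∑ i, (m - a' i).toNat := by
      rw [betti_eq t hE a' h (-m - 1)]
      refine Finset.sum_congr rfl fun i _ => ?_
      congr 1
      ring
    rw [h1]
  refine ⟨Z, ?_, fun t => ⟨fun ht => ?_, ?_⟩⟩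
  · have h1 : Z = ⋂ (m : ℤ) (j : Fin r), {t | ((j : ℤ) + 1) * m - α j ≤ (PerfAux.betti (KRR.pr 1 B) (M m) t 1 : ℤ)} := by
      ext t
      simp only [Set.mem_iInter]
      rfl
    rw [h1]
    refine isClosed_iInter fun m => isClosed_iInter fun j => ?_
    have h2 : FlatMod.IsFinLocFree (M m) := flf_tensor hE (-m - 1)
    have h3 := Groth.Agent.S1025.result (KRR.pr 1 B) (M m) (Desc.FinLocFreeSections.isFP_of_isFinLocFree h2)
      (PerfC.RelFlat.isFlatOver_of_isFlat _ (Dcoh.Spread.isFlat_of_isFinLocFree h2)) 1 (((j : ℤ) + 1) * m - α j).toNat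
    rw [← isOpen_compl_iff]
    convert h3 using 1
    ext t
    simp only [Set.mem_compl_iff, Set.mem_ofPred_eq, not_le]
    exact Int.lt_toNat.symm
  · obtain ⟨d, hd, ⟨e⟩⟩ := hsplit (B.residueField t) r ((Scheme.Modules.pullback (ch t)).obj E)
      (Vancyc.H878.Triv.isFinLocFreeOfRank_pullback _ hE)
    let a' : Fin r → ℤ := fun i => d (Fin.rev i)
    have ha' : Monotone a' := fun i j h => hd (Fin.rev_le_rev.mpr h)
    have e' : Nonempty ((Scheme.Modules.pullback (ch t)).obj E ≅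
        ∐ fun i : Fin r => Twist.twistProjSpace 1 (B.residueField t) (a' i)) :=
      ⟨e ≪≫ (Sigma.reindex Fin.revPerm (fun i : Fin r => Twist.twistProjSpace 1 (B.residueField t) (d i))).symm⟩
    exact ⟨a', ha', (key t a' ha' e').mp ht, (nonempty_iff t E a').mpr e'⟩
  · rintro ⟨a', ha', h, e⟩
    exact (key t a' ha' ((nonempty_iff t E a').mp e)).mpr h

end K699.JumpFib
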