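import Groth.Agent.VBPn.K699.LinForm

/-!
# Splitting the kernel of a row of linear forms

* `exists_matrices`: the matrices of a splitting of a surjective linear map `k^ι → k^(n+1)`.
* `kerIso`: `ker f ≅ ker g ⊞ K` if `f = σ ≫ g` with `σ` a split epimorphism with kernel `K`.
* `nonempty_kernel_row_iso`: `ker (row (lf ∘ a)) ≅ ker (row X) ⊞ ⨁_κ O(m)` when the `lf (a i)` span.
-/

set_option autoImplicit false

universe u v w

open CategoryTheory CategoryTheory.Limits AlgebraicGeometry Opposite TopologicalSpace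

namespace K699.KerSplit

open Groth.Agent Groth.Agent.Divis.ProjPic Groth.Agent.VarietyB.TwistMul K699.TwHom Groth.Agent.Sga67.Sec
open K699.GMat K699.LinForm

attribute [local instance] Abelian.hasFiniteBiproducts

theorem exists_matrices {k : Type u} [Field k] {ι κ α : Type} [Fintype ι] [Fintype κ] [Fintype α] [DecidableEq ι]
    [DecidableEq κ] [DecidableEq α] (hc : Fintype.card ι = Fintype.card α + Fintype.card κ) (a : ι → α → k)
    (ha : Function.Surjective (fun (c : ι → k) (j : α) => ∑ i, c i * a i j)) :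
    ∃ (D : α → ι → k) (K : κ → ι → k) (Q : ι → κ → k),
      (∀ j l, ∑ i, D j i * a i l = if j = l then 1 else 0) ∧ (∀ q l, ∑ i, K q i * a i l = 0) ∧
      (∀ j q, ∑ i, D j i * Q i q = 0) ∧ (∀ q q', ∑ i, K q i * Q i q' = if q = q' then 1 else 0) ∧
      (∀ i l, ∑ j, a i j * D j l + ∑ q, Q i q * K q l = if i = l then 1 else 0) := by
  let L : (ι → k) →ₗ[k] (α → k) := Fintype.linearCombination k a
  have hL : ∀ c l, L c l = ∑ i, c i * a i l := by
    intro c l
    simp [L, Fintype.linearCombination_apply]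
  have hLs : LinearMap.range L = ⊤ := LinearMap.range_eq_top.mpr fun y => by
    obtain ⟨c, h⟩ := ha y
    exact ⟨c, funext fun l => (hL c l).trans (congrFun h l)⟩
  obtain ⟨D, hD⟩ := L.exists_rightInverse_of_surjective hLs
  have hLD : ∀ y, L (D y) = y := fun y => LinearMap.congr_fun hD y
  have hdim : Module.finrank k (LinearMap.ker L) = Module.finrank k (κ → k) := by
    have h1 := LinearMap.finrank_range_add_finrank_ker L
    rw [hLs, finrank_top, Module.finrank_fintype_fun_eq_card, Module.finrank_fintype_fun_eq_card] at h1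
    rw [Module.finrank_fintype_fun_eq_card]
    omega
  let e : LinearMap.ker L ≃ₗ[k] (κ → k) := LinearEquiv.ofFinrankEq _ _ hdim
  let P : (ι → k) →ₗ[k] LinearMap.ker L := LinearMap.codRestrict (LinearMap.ker L) (LinearMap.id - D ∘ₗ L) fun c => by
    rw [LinearMap.mem_ker, LinearMap.sub_apply, map_sub, LinearMap.comp_apply, hLD, LinearMap.id_apply, sub_self]
  have hP : ∀ c, (P c : ι → k) = c - D (L c) := fun c => rfl
  have hPk : ∀ c (hc : L c = 0), P c = ⟨c, LinearMap.mem_ker.mpr hc⟩ := by
    intro c hc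
    apply Subtype.ext
    change c - D (L c) = c
    rw [hc, map_zero, sub_zero]
  have sumι : ∀ {V : Type u} [AddCommGroup V] [Module k V] (f : (ι → k) →ₗ[k] V) (c : ι → k),
      f c = ∑ i, c i • f (Pi.single i 1) := by
    intro V _ _ f c
    conv_lhs => rw [← Finset.univ_sum_single c, map_sum]
    refine Finset.sum_congr rfl fun j _ => ?_
    rw [← map_smul, ← Pi.single_smul, smul_eq_mul, mul_one]
  have sumα : ∀ {V : Type u} [AddCommGroup V] [Module k V] (f : (α → k) →ₗ[k] V) (c : α → k),
      f c = ∑ i, c i • f (Pi.single i 1) := by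
    intro V _ _ f c
    conv_lhs => rw [← Finset.univ_sum_single c, map_sum]
    refine Finset.sum_congr rfl fun j _ => ?_
    rw [← map_smul, ← Pi.single_smul, smul_eq_mul, mul_one]
  have sumκ : ∀ {V : Type u} [AddCommGroup V] [Module k V] (f : (κ → k) →ₗ[k] V) (c : κ → k),
      f c = ∑ i, c i • f (Pi.single i 1) := by
    intro V _ _ f c
    conv_lhs => rw [← Finset.univ_sum_single c, map_sum]
    refine Finset.sum_congr rfl fun j _ => ?_
    rw [← map_smul, ← Pi.single_smul, smul_eq_mul, mul_one]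
  have hQ : ∀ (c : ι → k) (q : κ), ∑ i, c i * e (P (Pi.single i 1)) q = e (P c) q := by
    intro c q
    have h1 := congrFun (sumι (e.toLinearMap ∘ₗ P) c) q
    simp only [LinearMap.comp_apply, LinearEquiv.coe_coe, Finset.sum_apply, Pi.smul_apply, smul_eq_mul] at h1
    exact h1.symm
  refine ⟨fun j => D (Pi.single j 1), fun q => (e.symm (Pi.single q 1) : ι → k),
    fun i => e (P (Pi.single i 1)), fun j l => ?_, fun q l => ?_, fun j q => ?_, fun q q' => ?_, fun i l => ?_⟩
  · rw [← hL, hLD, Pi.single_apply]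
    simp only [eq_comm]
  · rw [← hL, LinearMap.mem_ker.mp (e.symm (Pi.single q 1)).2]
    rfl
  · rw [hQ]
    have h1 : P (D (Pi.single j 1)) = 0 := Subtype.ext (by rw [hP, hLD, sub_self]; rfl)
    rw [h1, map_zero]
    rfl
  · rw [hQ, hPk _ (LinearMap.mem_ker.mp (e.symm (Pi.single q 1)).2)]
    change e (e.symm (Pi.single q 1)) q' = _
    rw [LinearEquiv.apply_symm_apply, Pi.single_apply]
    simp only [eq_comm]
  · have h1 : ∑ j, a i j * D (Pi.single j 1) l = D (L (Pi.single i 1)) l := by
      have h2 := congrFun (sumα D (L (Pi.single i 1))) l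
      simp only [Finset.sum_apply, Pi.smul_apply, smul_eq_mul] at h2
      rw [h2]
      refine Finset.sum_congr rfl fun j _ => ?_
      rw [hL]
      simp [Pi.single_apply]
    have h3 : ∑ q, e (P (Pi.single i 1)) q * (e.symm (Pi.single q 1) : ι → k) l = (P (Pi.single i 1) : ι → k) l := by
      have h2 := congrFun (sumκ ((LinearMap.ker L).subtype ∘ₗ e.symm.toLinearMap) (e (P (Pi.single i 1)))) l
      simp only [LinearMap.comp_apply, LinearEquiv.coe_coe, Finset.sum_apply, Pi.smul_apply, smul_eq_mul,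
        Submodule.subtype_apply, LinearEquiv.symm_apply_apply] at h2
      exact h2.symm
    rw [h1, h3, hP, Pi.sub_apply, add_sub_cancel, Pi.single_apply]
    simp only [eq_comm]

section Abstract

variable {C : Type u} [Category.{v} C] [Abelian C]

/-- `ker f ≅ ker g ⊞ K` if `f = σ ≫ g` with `σ` a split epimorphism with kernel `K`. -/
noncomputable def kerIso {A B K M : C} (f : A ⟶ M) (g : B ⟶ M) (σ : A ⟶ B) (δ : B ⟶ A) (κ : K ⟶ A) (θ : A ⟶ K)
    (hf : σ ≫ g = f) (h1 : δ ≫ σ = 𝟙 _) (h2 : κ ≫ σ = 0) (h3 : δ ≫ θ = 0) (h4 : κ ≫ θ = 𝟙 _)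
    (h5 : σ ≫ δ + θ ≫ κ = 𝟙 _) : kernel f ≅ kernel g ⊞ K where
  hom := biprod.lift (kernel.lift g (kernel.ι f ≫ σ) (by rw [Category.assoc, hf, kernel.condition])) (kernel.ι f ≫ θ)
  inv := biprod.desc (kernel.lift f (kernel.ι g ≫ δ) (by
      rw [Category.assoc, ← hf, ← Category.assoc δ, h1, Category.id_comp, kernel.condition]))
    (kernel.lift f κ (by rw [← hf, ← Category.assoc, h2, zero_comp]))
  hom_inv_id := by
    rw [biprod.lift_desc]
    apply equalizer.hom_ext
    change (_ + _) ≫ kernel.ι f = 𝟙 _ ≫ kernel.ι f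
    simp only [Preadditive.add_comp, Category.assoc, kernel.lift_ι, kernel.lift_ι_assoc,
      ← Preadditive.comp_add, h5, Category.comp_id, Category.id_comp]
  inv_hom_id := by
    have e1 : kernel.lift f (kernel.ι g ≫ δ) (by
        rw [Category.assoc, ← hf, ← Category.assoc δ, h1, Category.id_comp, kernel.condition]) ≫
        kernel.lift g (kernel.ι f ≫ σ) (by rw [Category.assoc, hf, kernel.condition]) = 𝟙 _ := by
      apply equalizer.hom_ext
      change (_ ≫ _) ≫ kernel.ι g = 𝟙 _ ≫ kernel.ι g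
      rw [Category.assoc, kernel.lift_ι, kernel.lift_ι_assoc, Category.assoc, h1, Category.comp_id, Category.id_comp]
    have e2 : kernel.lift f κ (by rw [← hf, ← Category.assoc, h2, zero_comp]) ≫
        kernel.lift g (kernel.ι f ≫ σ) (by rw [Category.assoc, hf, kernel.condition]) = 0 := by
      apply equalizer.hom_ext
      change (_ ≫ _) ≫ kernel.ι g = 0 ≫ kernel.ι g
      rw [Category.assoc, kernel.lift_ι, kernel.lift_ι_assoc, h2, zero_comp]
    apply biprod.hom_ext'
    · apply biprod.hom_ext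
      · simp [e1]
      · simp [h3]
    · apply biprod.hom_ext
      · simp [e2]
      · simp [h4]

end Abstract

variable {n : ℕ} {k : Type u} [Field k] {ι κ : Type} [Fintype ι] [Finite κ] {m m' : ℤ}

theorem nonempty_kernel_row_iso (h : m + (1 : ℕ) = m') (a : ι → Fin (n + 1) → k)
    [Epi (row h fun i => lf (a i))] (hc : Nat.card ι = n + 1 + Nat.card κ) :
    Nonempty (kernel (row h fun i => lf (a i)) ≅ kernel (row h (xf (n := n) (R := k))) ⊞ OO n k κ m) := by
  classical
  have := Fintype.ofFinite κ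
  obtain ⟨D, K, Q, h1, h2, h3, h4, h5⟩ := exists_matrices (κ := κ) (by
    rw [Nat.card_eq_fintype_card, Nat.card_eq_fintype_card] at hc
    rw [hc, Fintype.card_fin]) a (surjective_of_epi h a)
  have h0 : m + (0 : ℕ) = m := by simp
  refine ⟨kerIso _ _ (gm h0 fun i j => cst (a i j)) (gm h0 fun j i => cst (D j i)) (gm h0 fun q i => cst (K q i))
    (gm h0 fun i q => cst (Q i q)) ?_ ?_ ?_ ?_ ?_ ?_⟩
  · refine gm_row _ _ _ _ _ _ fun i => ?_
    simp
  · rw [gm_comp h0 h0 h0 _ _ (fun i j => cst (if i = j then 1 else 0)) fun i j => by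
      simp only [cst_val, ← map_mul, ← map_sum, h1]]
    exact gm_id _ _ fun i j => by rw [cst_val]; split_ifs <;> simp
  · rw [gm_comp h0 h0 h0 _ _ (fun i j => cst 0) fun i j => by
      simp only [cst_val, ← map_mul, ← map_sum, h2]]
    exact gm_zero _ _ fun i j => by simp
  · rw [gm_comp h0 h0 h0 _ _ (fun i j => cst 0) fun i j => by
      simp only [cst_val, ← map_mul, ← map_sum, h3]]
    exact gm_zero _ _ fun i j => by simp
  · rw [gm_comp h0 h0 h0 _ _ (fun i j => cst (if i = j then 1 else 0)) fun i j => by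
      simp only [cst_val, ← map_mul, ← map_sum, h4]]
    exact gm_id _ _ fun i j => by rw [cst_val]; split_ifs <;> simp
  · rw [gm_comp h0 h0 h0 _ _ (fun i l => cst (∑ j, a i j * D j l)) fun i j => by
      simp only [cst_val, ← map_mul, ← map_sum],
      gm_comp h0 h0 h0 _ _ (fun i l => cst (∑ j, Q i j * K j l)) fun i j => by
      simp only [cst_val, ← map_mul, ← map_sum],
      gm_add h0 _ _ (fun i l => cst (if i = l then 1 else 0)) fun i j => by
        rw [cst_val, cst_val, cst_val, ← map_add, h5]]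
    exact gm_id _ _ fun i j => by rw [cst_val]; split_ifs <;> simp

end K699.KerSplit
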