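import Mathlib.CategoryTheory.Idempotents.Basic
import Mathlib.CategoryTheory.Preadditive.Biproducts
import Groth.Agent.Dcoh.DualSum

/-!
# Matrix units split an object into equal summands

* `exists_iso_of_matrixUnits`: if `End(E)` contains a system of `r × r` matrix units then
  `E ≅ ∐_r L` for a direct summand `L` of `E`.
* `matUnit`: the matrix units of `∐_r L`.
-/

set_option autoImplicit false

open CategoryTheory Limits

namespace K699.MatUnits

open Groth.Agent Groth.Agent.Dcoh.DualSum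

universe v u

variable {C : Type u} [Category.{v} C] [Preadditive C]

theorem exists_iso_of_matrixUnits [IsIdempotentComplete C] {E : C} {r : ℕ}
    (hr : 0 < r) (hcop : ∀ L : C, HasCoproduct (fun _ : Fin r => L)) (e : Fin r → Fin r → (E ⟶ E))
    (he : ∀ i j k l, e i j ≫ e k l = if j = k then e i l else 0) (h1 : ∑ i, e i i = 𝟙 E) :
    ∃ (L : C) (i : L ⟶ E) (p : E ⟶ L), i ≫ p = 𝟙 L ∧ Nonempty (E ≅ ∐ fun _ : Fin r => L) := by
  let z : Fin r := ⟨0, hr⟩
  obtain ⟨L, i, p, hip, hpi⟩ := IsIdempotentComplete.idempotents_split E (e z z) (by rw [he]; simp)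
  have := hcop L
  refine ⟨L, i, p, hip, ?_⟩
  have hpi' : p ≫ i = e z z := hpi
  have h2 : ∀ j k, (i ≫ e z j) ≫ (e k z ≫ p) = if j = k then 𝟙 L else 0 := by
    intro j k
    rw [Category.assoc, ← Category.assoc (e z j), he]
    split_ifs with h
    · rw [← hpi', Category.assoc, ← Category.assoc i, hip, Category.id_comp]
    · rw [zero_comp, comp_zero]
  have h3 : ∑ j, (e j z ≫ p) ≫ (i ≫ e z j) = 𝟙 E := by
    rw [← h1]
    refine Finset.sum_congr rfl fun j _ => ?_
    rw [Category.assoc, ← Category.assoc p, hpi', he, if_pos rfl, he, if_pos rfl]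
  refine ⟨⟨∑ j, (e j z ≫ p) ≫ Sigma.ι (fun _ : Fin r => L) j, Sigma.desc fun j => i ≫ e z j, ?_, ?_⟩⟩
  · rw [Preadditive.sum_comp, ← h3]
    refine Finset.sum_congr rfl fun j _ => ?_
    rw [Category.assoc, Sigma.ι_desc]
  · apply Sigma.hom_ext
    intro j
    rw [← Category.assoc, Sigma.ι_desc, Category.comp_id, Preadditive.comp_sum]
    rw [Finset.sum_eq_single j]
    · rw [← Category.assoc, h2, if_pos rfl, Category.id_comp]
    · intro k _ hk
      rw [← Category.assoc, h2, if_neg (Ne.symm hk), zero_comp]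
    · intro h
      exact absurd (Finset.mem_univ _) h

/-- The matrix units of `∐_r L`. -/
noncomputable def matUnit (L : C) (r : ℕ) [HasCoproduct (fun _ : Fin r => L)] (i j : Fin r) :
    (∐ fun _ : Fin r => L) ⟶ ∐ fun _ : Fin r => L :=
  sigmaπ (fun _ : Fin r => L) i ≫ Sigma.ι (fun _ : Fin r => L) j

theorem matUnit_comp (L : C) (r : ℕ) [HasCoproduct (fun _ : Fin r => L)] (i j k l : Fin r) :
    matUnit L r i j ≫ matUnit L r k l = if j = k then matUnit L r i l else 0 := by
  unfold matUnit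
  rw [Category.assoc, ← Category.assoc (Sigma.ι _ j)]
  split_ifs with h
  · subst h
    rw [ι_sigmaπ, Category.id_comp]
  · rw [ι_sigmaπ_ne _ _ _ h, zero_comp, comp_zero]

theorem sum_matUnit (L : C) (r : ℕ) [HasCoproduct (fun _ : Fin r => L)] : ∑ i, matUnit L r i i = 𝟙 _ :=
  sum_sigmaπ _

end K699.MatUnits
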