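import Mathlib.CategoryTheory.Monoidal.Rigid.Basic
import Mathlib.CategoryTheory.Monoidal.Functor
import Mathlib.CategoryTheory.Monoidal.Preadditive

/-!
# Monoidal functors on morphisms out of dualizable objects

If `(X, Y)` is an exact pairing and the monoidal functor `F` is injective (surjective) on
`Hom(𝟙, Z ⊗ Y)` then it is injective (surjective) on `Hom(X, Z)`.
-/

set_option autoImplicit false

open CategoryTheory Limits MonoidalCategory

namespace K699.MonLift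

universe v v' u u'

variable {C : Type u} [Category.{v} C] [MonoidalCategory C] {D : Type u'} [Category.{v'} D] [MonoidalCategory D]
  (F : C ⥤ D) [F.Monoidal] {X Y Z : C} [ExactPairing X Y]

open Functor.LaxMonoidal Functor.OplaxMonoidal Functor.Monoidal

/-- `Hom(X, Z) → Hom(𝟙, Z ⊗ Y)`. -/
def sharp (f : X ⟶ Z) : 𝟙_ C ⟶ Z ⊗ Y := η_ X Y ≫ f ▷ Y

/-- `Hom(𝟙, Z ⊗ Y) → Hom(X, Z)`. -/
def flat (g : 𝟙_ C ⟶ Z ⊗ Y) : X ⟶ Z := (λ_ X).inv ≫ g ▷ X ≫ (α_ Z Y X).hom ≫ Z ◁ ε_ X Y ≫ (ρ_ Z).hom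

theorem flat_sharp (f : X ⟶ Z) : flat (Y := Y) (sharp f) = f := by
  have h := ExactPairing.evaluation_coevaluation X Y
  unfold flat sharp
  rw [comp_whiskerRight]
  have h2 : (f ▷ Y) ▷ X ≫ (α_ Z Y X).hom ≫ Z ◁ ε_ X Y = (α_ X Y X).hom ≫ X ◁ ε_ X Y ≫ f ▷ (𝟙_ C) := by
    rw [associator_naturality_left_assoc, whisker_exchange]
  simp only [Category.assoc]
  rw [reassoc_of% h2]
  rw [rightUnitor_naturality]
  have h3 := congrArg (fun t => (λ_ X).inv ≫ t ≫ (ρ_ X).hom) h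
  simp only [Category.assoc, Iso.inv_hom_id, Category.comp_id, Iso.inv_hom_id_assoc] at h3
  have h4 := congrArg (fun t => t ≫ f) h3
  simp only [Category.assoc, Category.id_comp] at h4
  exact h4

theorem sharp_injective : Function.Injective (sharp (X := X) (Y := Y) (Z := Z)) := fun f g h => by
  rw [← flat_sharp (Y := Y) f, ← flat_sharp (Y := Y) g, h]

theorem map_sharp (f : X ⟶ Z) : F.map (sharp (Y := Y) f) = F.map (η_ X Y) ≫ δ F X Y ≫ F.map f ▷ F.obj Y ≫ μ F Z Y := by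
  rw [sharp, F.map_comp, map_whiskerRight]

/-- Injectivity. -/
theorem map_injective (h : Function.Injective (F.map : (𝟙_ C ⟶ Z ⊗ Y) → _)) :
    Function.Injective (F.map : (X ⟶ Z) → _) := by
  intro f g hfg
  apply sharp_injective (Y := Y)
  apply h
  rw [map_sharp, map_sharp, hfg]

theorem key_R (Z : C) : μ F Z Y ▷ F.obj X ≫ μ F (Z ⊗ Y) X ≫ F.map (α_ Z Y X).hom ≫ F.map (Z ◁ ε_ X Y) ≫ F.map (ρ_ Z).hom =
    (α_ (F.obj Z) (F.obj Y) (F.obj X)).hom ≫ F.obj Z ◁ (μ F Y X ≫ F.map (ε_ X Y) ≫ η F) ≫ (ρ_ (F.obj Z)).hom := by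
  have h1 := Functor.LaxMonoidal.associativity F Z Y X
  rw [reassoc_of% h1, ← μ_natural_right_assoc, map_rightUnitor]
  simp only [MonoidalCategory.whiskerLeft_comp, Category.assoc, μ_δ_assoc]

/-- Surjectivity. -/
theorem map_surjective (h : Function.Surjective (F.map : (𝟙_ C ⟶ Z ⊗ Y) → _)) :
    Function.Surjective (F.map : (X ⟶ Z) → _) := by
  intro f
  obtain ⟨g, hg⟩ := h (F.map (η_ X Y) ≫ δ F X Y ≫ f ▷ F.obj Y ≫ μ F Z Y)
  refine ⟨flat (Y := Y) g, ?_⟩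
  have h1 : F.map (flat (Y := Y) g) = F.map (λ_ X).inv ≫ δ F _ _ ≫ F.map g ▷ F.obj X ≫ μ F _ _ ≫
      F.map (α_ Z Y X).hom ≫ F.map (Z ◁ ε_ X Y) ≫ F.map (ρ_ Z).hom := by
    rw [flat, F.map_comp, F.map_comp, F.map_comp, F.map_comp, map_whiskerRight]
    simp only [Category.assoc]
  have h2 : F.map (𝟙 X) = F.map (λ_ X).inv ≫ δ F _ _ ≫ F.map (η_ X Y) ▷ F.obj X ≫ μ F _ _ ≫
      F.map (α_ X Y X).hom ≫ F.map (X ◁ ε_ X Y) ≫ F.map (ρ_ X).hom := by
    conv_lhs => rw [← flat_sharp (X := X) (Y := Y) (Z := X) (𝟙 X), flat, sharp, id_whiskerRight, Category.comp_id]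
    rw [F.map_comp, F.map_comp, F.map_comp, F.map_comp, map_whiskerRight]
    simp only [Category.assoc]
  have h3 : (δ F X Y ≫ f ▷ F.obj Y ≫ μ F Z Y) ▷ F.obj X ≫ μ F _ _ ≫
      F.map (α_ Z Y X).hom ≫ F.map (Z ◁ ε_ X Y) ≫ F.map (ρ_ Z).hom =
      μ F _ _ ≫ F.map (α_ X Y X).hom ≫ F.map (X ◁ ε_ X Y) ≫ F.map (ρ_ X).hom ≫ f := by
    have h4 : μ F (X ⊗ Y) X ≫ F.map (α_ X Y X).hom ≫ F.map (X ◁ ε_ X Y) ≫ F.map (ρ_ X).hom ≫ f =
        δ F X Y ▷ F.obj X ≫ (μ F X Y ▷ F.obj X ≫ μ F (X ⊗ Y) X ≫ F.map (α_ X Y X).hom ≫ F.map (X ◁ ε_ X Y) ≫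
          F.map (ρ_ X).hom) ≫ f := by
      simp only [Category.assoc, whiskerRight_δ_μ_assoc]
    rw [h4, key_R]
    simp only [comp_whiskerRight, Category.assoc]
    rw [key_R]
    congr 1
    rw [associator_naturality_left_assoc, ← whisker_exchange_assoc, rightUnitor_naturality]
  rw [h1, hg, comp_whiskerRight]
  simp only [Category.assoc]
  rw [h3]
  have h4 := congrArg (fun t => t ≫ f) h2
  simp only [Category.assoc] at h4
  rw [← h4, F.map_id, Category.id_comp]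

end K699.MonLift
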