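import Groth.Agent.VBPn.K699.WronSimple
import Groth.Agent.VBPn.K699.Euler

/-!
# `Ω(d)` on `P^n_k`: it is simple, `Ext¹(Ω(d), O(c)) = 0` for `n ≥ 3`

* `exists_row_of_shortExact`, `nonempty_omega_tw_iso`: `Ω ⊗ O(d) ≅ ker ((X_i) : O(d-1)^{n+1} ⟶ O(d))`.
* `simple_kernel_row`.
-/

set_option autoImplicit false

universe u

open CategoryTheory CategoryTheory.Limits AlgebraicGeometry Opposite TopologicalSpace

namespace K699.OmegaSimple

open Groth.Agent Groth.Agent.Divis.ProjPic Groth.Agent.VarietyB.TwistMul K699.TwHom Groth.Agent.Sga67.Sec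
open K699.GMat K699.LinForm K699.WronEx K699.Scalar K699.Wron K699.WronSimple K699.KerSplit

attribute [local instance] Abelian.hasFiniteBiproducts

variable {n : ℕ} {k : Type u} [Field k] {m m' m'' : ℤ}

theorem exists_row_of_shortExact {R : Type u} [CommRing R] {N : ℕ} (h : m + (1 : ℕ) = m')
    {S : ShortComplex (Proj (gr n R)).Modules} (hS : S.ShortExact)
    (e2 : S.X₂ ≅ OO n R (Fin N) m) (e3 : S.X₃ ≅ T n R m') :
    ∃ a : Fin N → Fin (n + 1) → R, Epi (row h fun i => lf (a i)) ∧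
      Nonempty (S.X₁ ≅ kernel (row h fun i => lf (a i))) := by
  obtain ⟨A, hA⟩ := exists_row h (e2.inv ≫ S.g ≫ e3.hom)
  choose a ha using fun i => exists_lf (A i)
  have hA' : e2.inv ≫ S.g ≫ e3.hom = row h fun i => lf (a i) := by
    rw [hA]
    congr 1
    exact funext ha
  have := hS.epi_g
  refine ⟨a, ?_, ⟨?_⟩⟩
  · rw [← hA']
    infer_instance
  · rw [← hA']
    exact (IsLimit.conePointUniqueUpToIso hS.fIsKernel (kernelIsKernel S.g)) ≪≫
      (kernel.mapIso S.g (e2.inv ≫ S.g ≫ e3.hom) e2 e3 (by simp))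

theorem nonempty_iso_of_shortExact (h : m + (1 : ℕ) = m')
    {S : ShortComplex (Proj (gr n k)).Modules} (hS : S.ShortExact)
    (e2 : S.X₂ ≅ OO n k (Fin (n + 1)) m) (e3 : S.X₃ ≅ T n k m') :
    Nonempty (S.X₁ ≅ kernel (row h (xf (n := n) (R := k)))) := by
  obtain ⟨a, ha, ⟨e⟩⟩ := exists_row_of_shortExact h hS e2 e3
  obtain ⟨e'⟩ := nonempty_kernel_row_iso (κ := Fin 0) h a (by simp)
  have h0 : IsZero (OO n k (Fin 0) m) := by
    rw [IsZero.iff_id_eq_zero]
    exact biproduct.hom_ext _ _ fun j => j.elim0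
  exact ⟨e ≪≫ e' ≪≫ (isoBiprodZero h0).symm⟩

/-- `Ω ⊗ O(d) ≅ ker (O(d-1)^{n+1} ⟶ O(d))`. -/
theorem nonempty_omega_tw_iso (h : m + (1 : ℕ) = m') :
    Nonempty (CohB1.tensorMod (Omega.sheaf (CohB1.ProjSpace.toSpec n k)) (T n k m') ≅
      kernel (row h (xf (n := n) (R := k)))) := by
  obtain ⟨e0⟩ := Gaga.H883.Serre.O_zero n k
  obtain ⟨e1⟩ := Gaga.H883.Serre.O_mul n k m' (-m')
  rw [add_neg_cancel] at e1
  let F := DCoh.tensorRightMod (X := Proj (gr n k)) (T n k m')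
  have hF : F.IsEquivalence := Sga2.LefPow644.isEquivalence_of_inv (A := T n k m') (B := T n k (-m')) (e1 ≪≫ e0)
  obtain ⟨eΩ⟩ := Euler.nonempty_omega_iso n k
  have hS : ((seq₂ n k Euler.hneg).map F).ShortExact := (shortExact₂ (n := n) (k := k) Euler.hneg).map_of_exact F
  obtain ⟨e2⟩ := Gaga.H883.Serre.O_mul n k (-1) m'
  obtain ⟨e3⟩ := Gaga.H883.Serre.O_mul n k 0 m'
  rw [zero_add] at e3
  rw [show (-1 : ℤ) + m' = m by push_cast at h; omega] at e2
  obtain ⟨e⟩ := nonempty_iso_of_shortExact h hS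
    (F.mapBiproduct (fun _ : Fin (n + 1) => T n k (-1)) ≪≫ biproduct.mapIso fun _ => e2) e3
  exact ⟨F.mapIso eΩ ≪≫ e⟩

/-- The kernel of `(X_i) : O(m)^{n+1} ⟶ O(m+1)` is simple. -/
theorem simple_kernel_row (hn : 2 ≤ n) (h : m + (1 : ℕ) = m')
    (φ : kernel (row h (xf (n := n) (R := k))) ⟶ kernel (row h (xf (n := n) (R := k)))) :
    ∃ c : k, ∀ (U : (Proj (gr n k)).Opens) (s : Sec (kernel (row h (xf (n := n) (R := k)))) U),
      appS φ U s = sc c U • s := by
  have := HasExt.standard (Proj (gr n k)).Modules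
  have h2 := shortExact₂ (n := n) (k := k) h
  have := h2.epi_g
  let x : OO n k (Fin (n + 1)) m ⟶ T n k m' := row h (xf (n := n) (R := k))
  obtain ⟨B, hB⟩ := exists_desc' (kernel.ι x) x (kernel.condition x) h2
    (ExtTw.subsingleton_biproduct_right _ _ _ fun _ : Fin (n + 1) =>
      ExtTw.subsingleton_ext_O (n := n) (R := k) m' m 1 one_pos (by omega)) (φ ≫ kernel.ι x)
  have hBx : kernel.ι x ≫ B ≫ x = 0 := by
    rw [← Category.assoc, hB, Category.assoc, kernel.condition, comp_zero]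
  let C : T n k m' ⟶ T n k m' := h2.exact.desc (B ≫ x) hBx
  have hBC : B ≫ x = x ≫ C := (h2.exact.g_desc (B ≫ x) hBx).symm
  obtain ⟨B₀, rfl⟩ := exists_gm (h00 m) B
  obtain ⟨C₀, hC₀⟩ := exists_mulMap (h00 m') C
  rw [hC₀] at hBC
  have e1 := gm_row (h00 m) h h B₀ xf
    (fun i => ⟨∑ j, (B₀ i j).1 * (xf (n := n) (R := k) j).1, by
      refine Submodule.sum_mem _ fun j _ => ?_
      have := MvPolynomial.IsHomogeneous.mul (B₀ i j).2 (xf (n := n) (R := k) j).2
      simpa using this⟩) fun i => rfl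
  have e2 := row_mulMap h (h00 m') h xf C₀
    (fun i => ⟨(xf (n := n) (R := k) i).1 * C₀.1, by
      have := MvPolynomial.IsHomogeneous.mul (xf (n := n) (R := k) i).2 C₀.2
      simpa using this⟩) fun i => rfl
  have h1 := row_injective _ (e1.symm.trans (hBC.trans e2))
  obtain ⟨c, rfl⟩ := eq_scm_of_X (B := B₀) (C := C₀) fun i => congrArg Subtype.val (congrFun h1 i)
  refine ⟨c, fun U s => ?_⟩
  apply injective_of_mono (kernel.ι x) U
  have h3 := congrArg (fun f => appS f U s) hB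
  have h4 : appS (kernel.ι x) U (sc c U • s) = sc c U • appS (kernel.ι x) U s := map_smul _ _ _
  rw [h4, ← appS_gm_scm (h00 m)]
  exact h3.symm

/-- Endomorphisms transported along an isomorphism. -/
theorem scalar_of_iso {M N : (Proj (gr n k)).Modules} (e : M ≅ N)
    (h : ∀ φ : N ⟶ N, ∃ c : k, ∀ (U : (Proj (gr n k)).Opens) (s : Sec N U), appS φ U s = sc c U • s)
    (φ : M ⟶ M) : ∃ c : k, ∀ (U : (Proj (gr n k)).Opens) (s : Sec M U), appS φ U s = sc c U • s := by
  obtain ⟨c, hc⟩ := h (e.inv ≫ φ ≫ e.hom)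
  refine ⟨c, fun U s => ?_⟩
  apply injective_of_mono e.hom U
  have h1 := hc U (appS e.hom U s)
  have h2 : appS (e.inv ≫ φ ≫ e.hom) U (appS e.hom U s) = appS e.hom U (appS φ U s) := by
    change appS e.hom U (appS φ U (appS e.inv U (appS e.hom U s))) = _
    rw [appS_hom_inv]
  have h3 : appS e.hom U (sc c U • s) = sc c U • appS e.hom U s := map_smul _ _ _
  rw [h3, ← h1, h2]

end K699.OmegaSimple
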