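import Groth.Agent.VBPn.K699.MonLift
import Groth.Agent.Dcoh.MonPull2_292
import Groth.Agent.Dcoh.DualFLF
import Groth.Agent.Fga.UnitRestrict
import Groth.Agent.Dcoh.Restrict

/-!
# Pullback on endomorphisms of a module `E` with `E ⊗ E^∨` free

* `map_unit_bijective`: `f^*` is bijective on `End(O)` if `Γ(X, O) → Γ(Y, O)` is bijective.
* `map_end_bijective`: `f^*` is bijective on `End(E)` if moreover `E ⊗ E^∨` is free.
* `exists_iso_of_matrixUnits`: an object with matrix units is a sum of copies of one object.
-/

set_option autoImplicit false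

open CategoryTheory Limits MonoidalCategory AlgebraicGeometry

namespace K699.PullEnd

open Groth.Agent Groth.Agent.Dcoh.DualSum

section Abstract

universe v v' u u'

variable {C : Type u} [Category.{v} C] [Preadditive C] {D : Type u'} [Category.{v'} D] [Preadditive D]
  (F : C ⥤ D) [F.Additive]

theorem map_coprod_injective {A : C} {J : Type*} [Finite J] (B : J → C) [HasCoproduct B]
    (h : ∀ j, Function.Injective (F.map : (A ⟶ B j) → _)) : Function.Injective (F.map : (A ⟶ ∐ B) → _) := by
  have := Fintype.ofFinite J
  intro g g' hg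
  have h1 : ∀ j, g ≫ sigmaπ B j = g' ≫ sigmaπ B j := fun j => h j (by rw [F.map_comp, F.map_comp, hg])
  rw [← Category.comp_id g, ← Category.comp_id g', ← sum_sigmaπ B, Preadditive.comp_sum, Preadditive.comp_sum]
  refine Finset.sum_congr rfl fun j _ => ?_
  rw [← Category.assoc, h1, Category.assoc]

theorem map_coprod_surjective {A : C} {J : Type*} [Finite J] (B : J → C) [HasCoproduct B]
    (h : ∀ j, Function.Surjective (F.map : (A ⟶ B j) → _)) : Function.Surjective (F.map : (A ⟶ ∐ B) → _) := by
  have := Fintype.ofFinite J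
  intro g
  choose c hc using fun j => h j (g ≫ F.map (sigmaπ B j))
  refine ⟨∑ j, c j ≫ Sigma.ι B j, ?_⟩
  rw [Functor.map_sum]
  simp only [F.map_comp, hc, Category.assoc]
  simp only [← F.map_comp]
  rw [← Preadditive.comp_sum, ← Functor.map_sum, sum_sigmaπ, F.map_id, Category.comp_id]

theorem map_iso_bijective {A B B' : C} (e : B ≅ B') (h : Function.Bijective (F.map : (A ⟶ B') → _)) :
    Function.Bijective (F.map : (A ⟶ B) → _) := by
  constructor
  · intro g g' hg
    rw [← cancel_mono e.hom]
    apply h.1
    rw [F.map_comp, F.map_comp, hg]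
  · intro g
    obtain ⟨c, hc⟩ := h.2 (g ≫ F.map e.hom)
    refine ⟨c ≫ e.inv, ?_⟩
    rw [F.map_comp, hc, Category.assoc, ← F.map_comp, e.hom_inv_id, F.map_id, Category.comp_id]

end Abstract

section Scheme

universe u

open scoped Groth.Agent.Dcoh.MonCat
open Groth.Agent.Dcoh.MonPull

variable {X Y : Scheme.{u}} (f : Y ⟶ X)

theorem map_unit_bijective (h : Function.Bijective f.appTop.hom) :
    Function.Bijective ((Scheme.Modules.pullback f).map : (Coh.structureModule X ⟶ Coh.structureModule X) → _) := by
  let adj := Scheme.Modules.pullbackPushforwardAdjunction f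
  let u := Fga.UnitRestrict.pullbackUnitHom f
  have hu : IsIso u := Fga.UnitRestrict.isIso_pullbackUnitHom f
  let θ : ((Scheme.Modules.pullback f).obj (Coh.structureModule X) ⟶
      (Scheme.Modules.pullback f).obj (Coh.structureModule X)) → Γ((Scheme.Modules.pushforward f).obj (Coh.structureModule Y), ⊤) :=
    fun g => Dcoh.Restrict.unitEquiv _ (adj.homEquiv _ _ (g ≫ u))
  have hθ : Function.Injective θ := by
    intro g g' hg
    have h1 := (adj.homEquiv _ _).injective ((Dcoh.Restrict.unitEquiv _).injective hg)
    rwa [cancel_mono] at h1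
  have h1 : ∀ φ : Coh.structureModule X ⟶ Coh.structureModule X,
      θ ((Scheme.Modules.pullback f).map φ) = f.appTop.hom (Dcoh.Restrict.unitEquiv _ φ) := by
    intro φ
    have h2 : adj.homEquiv _ _ ((Scheme.Modules.pullback f).map φ ≫ u) = φ ≫ Fga.UnitRestrict.unitToPush f := by
      rw [Adjunction.homEquiv_naturality_left, Adjunction.homEquiv_unit]
      congr 1
      exact Fga.UnitRestrict.unit_pullbackUnitHom f
    change Dcoh.Restrict.unitEquiv _ (adj.homEquiv _ _ ((Scheme.Modules.pullback f).map φ ≫ u)) = _
    rw [h2]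
    rfl
  have h2 : Function.Bijective (fun φ : Coh.structureModule X ⟶ Coh.structureModule X =>
      θ ((Scheme.Modules.pullback f).map φ)) := by
    have h3 : (fun φ : Coh.structureModule X ⟶ Coh.structureModule X => θ ((Scheme.Modules.pullback f).map φ)) =
        f.appTop.hom ∘ (Dcoh.Restrict.unitEquiv (Coh.structureModule X)) := funext h1
    rw [h3]
    exact h.comp (Dcoh.Restrict.unitEquiv _).bijective
  constructor
  · intro φ φ' hφ
    exact h2.1 (congrArg θ hφ)
  · intro g
    obtain ⟨φ, hφ⟩ := h2.2 (θ g)
    exact ⟨φ, hθ hφ⟩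

theorem map_free_bijective (h : Function.Bijective f.appTop.hom) (n : ℕ) :
    Function.Bijective ((Scheme.Modules.pullback f).map : (Coh.structureModule X ⟶ FlatMod.freeMod X n) → _) :=
  ⟨map_coprod_injective _ _ fun _ => (map_unit_bijective f h).1,
    map_coprod_surjective _ _ fun _ => (map_unit_bijective f h).2⟩

theorem map_end_bijective (h : Function.Bijective f.appTop.hom) (E E' : X.Modules) [ExactPairing E E'] {n : ℕ}
    (e : E ⊗ E' ≅ FlatMod.freeMod X n) :
    Function.Bijective ((Scheme.Modules.pullback f).map : (E ⟶ E) → _) := by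
  have hb : Function.Bijective ((Scheme.Modules.pullback f).map : (𝟙_ X.Modules ⟶ E ⊗ E') → _) :=
    map_iso_bijective (Scheme.Modules.pullback f) e (map_free_bijective f h n)
  exact ⟨MonLift.map_injective (Scheme.Modules.pullback f) (Y := E') hb.1,
    MonLift.map_surjective (Scheme.Modules.pullback f) (Y := E') hb.2⟩

end Scheme

end K699.PullEnd
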