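import Groth.Agent.VBPn.K699.LinForm
import Mathlib.LinearAlgebra.Matrix.Block
import Mathlib.LinearAlgebra.Matrix.Adjugate

/-!
# The Wronskian matrix

`Mt m j = Σ_{i + j = m + 1} (j - i) X_i` for `m < 2n - 1`, `j ≤ n`, and the square matrices `Na a` completing
the columns `j ≠ a` by multiples of unit vectors, whose determinant does not vanish at the points where
`X_a ≠ 0`, `X_l = 0` for `l < a`.
-/

set_option autoImplicit false

universe u

open MvPolynomial

namespace K699.Wron

open K699.GMat K699.LinForm K699.TwHom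

variable {k : Type u} [Field k] {n : ℕ}

/-- Entries of the Wronskian matrix. -/
noncomputable def Mt (m : Fin (2 * n - 1)) (j : Fin (n + 1)) : gr n k 1 :=
  lf fun i => if (i : ℕ) + j = m + 1 then (j : k) - (i : k) else 0

theorem Mt_val (m : Fin (2 * n - 1)) (j : Fin (n + 1)) :
    (Mt (k := k) m j).1 = ∑ i : Fin (n + 1), if (i : ℕ) + j = m + 1 then C ((j : k) - (i : k)) * X i else 0 := by
  rw [Mt, lf_val]
  refine Finset.sum_congr rfl fun i _ => ?_
  split_ifs <;> simp

theorem sum_Mt_mul_X [CharZero k] (m : Fin (2 * n - 1)) : ∑ j, (Mt (k := k) m j).1 * X j = 0 := by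
  have h1 : ∑ j, (Mt (k := k) m j).1 * X j = -∑ j, (Mt (k := k) m j).1 * X j := by
    simp only [Mt_val, Finset.sum_mul]
    conv_lhs => rw [Finset.sum_comm]
    rw [← Finset.sum_neg_distrib]
    refine Finset.sum_congr rfl fun j _ => ?_
    rw [← Finset.sum_neg_distrib]
    refine Finset.sum_congr rfl fun i _ => ?_
    rw [add_comm (j : ℕ) i]
    split_ifs
    · rw [map_sub, map_sub]
      ring
    · simp
  have h2 : (2 : MvPolynomial (Fin (n + 1)) k) * ∑ j, (Mt (k := k) m j).1 * X j = 0 := by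
    rw [two_mul]
    nth_rewrite 1 [h1]
    rw [neg_add_cancel]
  have h3 : (2 : MvPolynomial (Fin (n + 1)) k) ≠ 0 := by
    have h4 : (2 : MvPolynomial (Fin (n + 1)) k) = C 2 := (map_ofNat C 2).symm
    rw [h4, Ne, C_eq_zero]
    exact two_ne_zero
  exact (mul_eq_zero.mp h2).resolve_left h3

/-- The pivot columns. -/
def IsPiv (a : Fin (n + 1)) (c : Fin (2 * n - 1)) : Prop := (a : ℕ) ≤ c + 1 ∧ (c : ℕ) + 1 - a ≤ n ∧ (c : ℕ) + 1 - a ≠ a

instance (a : Fin (n + 1)) (c : Fin (2 * n - 1)) : Decidable (IsPiv a c) := by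
  unfold IsPiv
  infer_instance

/-- The index of a pivot column. -/
def pj (a : Fin (n + 1)) (c : Fin (2 * n - 1)) (h : IsPiv a c) : Fin (n + 1) :=
  ⟨(c : ℕ) + 1 - a, Nat.lt_succ_of_le h.2.1⟩

theorem pj_ne (a : Fin (n + 1)) (c : Fin (2 * n - 1)) (h : IsPiv a c) : pj a c h ≠ a :=
  fun h' => h.2.2 (congrArg Fin.val h')

/-- The completed matrix. -/
noncomputable def Na (a : Fin (n + 1)) (m c : Fin (2 * n - 1)) : gr n k 1 :=
  if h : IsPiv a c then Mt m (pj a c h) else if m = c then xf a else 0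

/-- The pivot column of an index. -/
def pc (a j : Fin (n + 1)) (h : j ≠ a) : Fin (2 * n - 1) :=
  ⟨(a : ℕ) + j - 1, by
    have h1 := a.2
    have h2 := j.2
    have h3 : (j : ℕ) ≠ a := fun h' => h (Fin.ext h')
    omega⟩

theorem isPiv_pc (a j : Fin (n + 1)) (h : j ≠ a) : IsPiv a (pc a j h) := by
  have h2 := j.2
  have h3 : (j : ℕ) ≠ a := fun h' => h (Fin.ext h')
  refine ⟨?_, ?_, ?_⟩ <;> simp only [pc] <;> omega

theorem pj_pc (a j : Fin (n + 1)) (h : j ≠ a) : pj a (pc a j h) (isPiv_pc a j h) = j := by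
  apply Fin.ext
  have h3 : (j : ℕ) ≠ a := fun h' => h (Fin.ext h')
  simp only [pj, pc]
  omega

theorem Na_pc (a : Fin (n + 1)) (m : Fin (2 * n - 1)) (j : Fin (n + 1)) (h : j ≠ a) :
    Na (k := k) a m (pc a j h) = Mt m j := by
  rw [Na, dif_pos (isPiv_pc a j h), pj_pc]

/-- The determinant as a form. -/
noncomputable def Dt (a : Fin (n + 1)) : MvPolynomial (Fin (n + 1)) k :=
  Matrix.det (Matrix.of fun m c => (Na (k := k) a m c).1)

theorem det_notMem [CharZero k] (a : Fin (n + 1)) (P : Ideal (MvPolynomial (Fin (n + 1)) k)) [hP : P.IsPrime]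
    (ha : (X a : MvPolynomial (Fin (n + 1)) k) ∉ P) (hl : ∀ l < a, (X l : MvPolynomial (Fin (n + 1)) k) ∈ P) :
    Dt (k := k) a ∉ P := by
  rw [← Ideal.Quotient.eq_zero_iff_mem, Dt, RingHom.map_det]
  have hX : ∀ l, Ideal.Quotient.mk P (X l) = 0 ↔ (X l : MvPolynomial (Fin (n + 1)) k) ∈ P := fun l =>
    Ideal.Quotient.eq_zero_iff_mem
  have h0 : ∀ (m c : Fin (2 * n - 1)) (h : IsPiv a c),
      Ideal.Quotient.mk P (Mt (k := k) m (pj a c h)).1 = ∑ i : Fin (n + 1), if (i : ℕ) + c = m + a then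
        Ideal.Quotient.mk P (C ((pj a c h : k) - (i : k))) * Ideal.Quotient.mk P (X i) else 0 := by
    intro m c h
    rw [Mt_val, map_sum]
    refine Finset.sum_congr rfl fun i _ => ?_
    have h2 := h.1
    by_cases h1 : (i : ℕ) + c = m + a
    · rw [if_pos h1, if_pos (by simp only [pj]; omega), map_mul]
    · rw [if_neg h1, if_neg (by simp only [pj]; omega), map_zero]
  have htri : (Matrix.BlockTriangular ((Ideal.Quotient.mk P).mapMatrix (Matrix.of fun m c => (Na (k := k) a m c).1))
      OrderDual.toDual) := by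
    intro m c hmc
    have hmc' : m < c := hmc
    rw [RingHom.mapMatrix_apply, Matrix.map_apply, Matrix.of_apply, Na]
    split_ifs with h h'
    · rw [h0]
      refine Finset.sum_eq_zero fun i _ => ?_
      split_ifs with h1
      · rw [(hX i).mpr (hl i (by rw [Fin.lt_def] at hmc' ⊢; omega)), mul_zero]
      · rfl
    · exact absurd h' hmc'.ne
    · exact map_zero _
  rw [Matrix.det_of_isLowerTriangular _ htri]
  refine Finset.prod_ne_zero_iff.mpr fun c _ => ?_
  rw [RingHom.mapMatrix_apply, Matrix.map_apply, Matrix.of_apply, Na]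
  have haX : Ideal.Quotient.mk P (X a) ≠ 0 := fun h => ha ((hX a).mp h)
  split_ifs with h h'
  · rw [h0, Finset.sum_eq_single a, if_pos (by omega)]
    · refine mul_ne_zero ?_ haX
      have h1 : (pj a c h : k) - (a : k) ≠ 0 := by
        rw [sub_ne_zero]
        exact fun h' => pj_ne a c h (Fin.ext (Nat.cast_injective h'))
      intro h2
      rw [Ideal.Quotient.eq_zero_iff_mem] at h2
      apply hP.ne_top
      rw [Ideal.eq_top_iff_one]
      have h3 := P.mul_mem_left (C ((pj a c h : k) - (a : k))⁻¹) h2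
      rwa [← map_mul, inv_mul_cancel₀ h1, map_one] at h3
    · intro i _ hi
      rw [if_neg]
      intro h1
      exact hi (Fin.ext (by omega))
    · intro h1
      exact absurd (Finset.mem_univ a) h1
  · exact haX
  · exact absurd rfl h'

end K699.Wron
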