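import Groth.Agent.VBPn.K699.Wron
import Groth.Agent.VBPn.K699.DetSurj
import Groth.Agent.VBPn.K699.KoszulP1

/-!
# Exactness of `O(m)^{2n-1} ⟶ O(m+1)^{n+1} ⟶ O(m+2) ⟶ 0` given by the Wronskian matrix
-/

set_option autoImplicit false

universe u

open CategoryTheory CategoryTheory.Limits AlgebraicGeometry Opposite TopologicalSpace

namespace K699.WronEx

open Groth.Agent Groth.Agent.Divis.ProjPic Groth.Agent.VarietyB.TwistMul K699.TwHom Groth.Agent.Sga67.Sec
open K699.GMat K699.LinForm K699.Wron K699.DetSurj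

attribute [local instance] Abelian.hasFiniteBiproducts

variable {k : Type u} [Field k] {n : ℕ} {m m' m'' : ℤ}

theorem isUnit_al {R : Type u} [CommRing R] (y : ProjectiveSpectrum (gr n R)) {a : MvPolynomial (Fin (n + 1)) R}
    (ha : a ∉ y.asHomogeneousIdeal) : IsUnit (al y a) :=
  IsLocalization.map_units (M := y.asHomogeneousIdeal.toIdeal.primeCompl) (Twist.Loc (gr n R) y) ⟨a, ha⟩

theorem comp_eq_zero [CharZero k] (h : m + (1 : ℕ) = m') (h' : m' + (1 : ℕ) = m'') :
    gm h (Mt (k := k) (n := n)) ≫ row h' xf = 0 := by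
  refine hom_ext fun U s => evT_ext fun x hx => ?_
  have h1 : appS (gm h (Mt (k := k) (n := n)) ≫ row h' xf) U s = appS (row h' xf) U (appS (gm h Mt) U s) := rfl
  rw [h1, evT_row, appS_zero]
  simp only [val_gm, Finset.mul_sum]
  rw [Finset.sum_comm]
  refine Finset.sum_eq_zero fun i _ => ?_
  have h2 := congrArg (al x) (sum_Mt_mul_X (k := k) i)
  rw [map_sum, map_zero] at h2
  have h3 : ∀ j, al x (xf (R := k) j).1 * (al x (Mt (k := k) i j).1 * val s x hx i) =
      al x ((Mt (k := k) i j).1 * MvPolynomial.X j) * val s x hx i := by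
    intro j
    rw [map_mul]
    change al x (MvPolynomial.X j) * _ = _
    ring
  rw [Finset.sum_congr rfl fun j _ => h3 j, ← Finset.sum_mul, h2, zero_mul]

/-- There is a first coordinate which does not vanish. -/
theorem exists_first (x : ProjectiveSpectrum (gr n k)) :
    ∃ a : Fin (n + 1), (MvPolynomial.X a : MvPolynomial (Fin (n + 1)) k) ∉ x.asHomogeneousIdeal.toIdeal ∧
      ∀ l < a, (MvPolynomial.X l : MvPolynomial (Fin (n + 1)) k) ∈ x.asHomogeneousIdeal.toIdeal := by
  classical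
  obtain ⟨a, ha⟩ := KoszulP1.exists_xf_notMem (R := k) x
  let s : Finset (Fin (n + 1)) := Finset.univ.filter fun a =>
    (MvPolynomial.X a : MvPolynomial (Fin (n + 1)) k) ∉ x.asHomogeneousIdeal.toIdeal
  have hs : s.Nonempty := ⟨a, by simpa [s] using ha⟩
  refine ⟨s.min' hs, ?_, fun l hl => ?_⟩
  · have := s.min'_mem hs
    simpa [s] using this
  · by_contra hc
    have h1 : l ∈ s := by simpa [s] using hc
    exact absurd (s.min'_le l h1) (not_le.mpr hl)

theorem exact_aux [CharZero k] (h : m + (1 : ℕ) = m') (h' : m' + (1 : ℕ) = m'') (U : (Proj (gr n k)).Opens)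
    (s : Sec (OO n k (Fin (n + 1)) m') U) (hs : appS (row h' (xf (n := n) (R := k))) U s = 0)
    (x : Proj (gr n k)) (hx : x ∈ U) : ∃ (V : (Proj (gr n k)).Opens) (hV : V ≤ U), x ∈ V ∧
      ∃ t : Sec (OO n k (Fin (2 * n - 1)) m) V, appS (gm h (Mt (k := k))) V t = res _ hV s := by
  obtain ⟨a, ha, hl⟩ := exists_first (k := k) x
  have := (show ProjectiveSpectrum (gr n k) from x).isPrime
  have hD := det_notMem (k := k) a (show ProjectiveSpectrum (gr n k) from x).asHomogeneousIdeal.toIdeal ha hl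
  let V := U ⊓ (Proj.basicOpen (gr n k) (MvPolynomial.X a) ⊓ Proj.basicOpen (gr n k) (Dt (k := k) a))
  have hVU : V ≤ U := inf_le_left
  have hVa : V ≤ Proj.basicOpen (gr n k) (MvPolynomial.X a) := inf_le_right.trans inf_le_left
  have hVD : V ≤ Proj.basicOpen (gr n k) (mat (Na (k := k) a)).det := inf_le_right.trans inf_le_right
  refine ⟨V, hVU, ⟨hx, ha, hD⟩, ?_⟩
  obtain ⟨w, hw⟩ := exists_sec (n := n) (R := k) (m := m') (U := V) fun c : Fin (2 * n - 1) =>
    if hc : IsPiv a c then appS (pr m' (pj a c hc)) V (res _ hVU s) else 0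
  obtain ⟨v, hv⟩ := exists_solution (Na (k := k) a) h V hVD w
  have key : ∀ (y : ProjectiveSpectrum (gr n k)) (hy : y ∈ V) (j : Fin (n + 1)), j ≠ a →
      val (appS (gm h (Mt (k := k))) V v) y hy j = val (res _ hVU s) y hy j := by
    intro y hy j hj
    rw [val_gm]
    have h1 : ∀ i, al y (Mt (k := k) i j).1 * val v y hy i = al y (Na (k := k) a i (pc a j hj)).1 * val v y hy i := by
      intro i
      rw [Na_pc]
    rw [Finset.sum_congr rfl fun i _ => h1 i]
    have h2 := val_gm h (Na (k := k) a) v y hy (pc a j hj)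
    rw [← h2, hv, hw, dif_pos (isPiv_pc a j hj)]
    rw [pj_pc]
    rfl
  refine ⟨v, val_ext fun y hy j => ?_⟩
  by_cases hj : j = a
  · subst hj
    have h1 : evT (appS (row h' (xf (n := n) (R := k))) V (appS (gm h (Mt (k := k))) V v)) y hy =
        evT (appS (row h' (xf (n := n) (R := k))) V (res _ hVU s)) y hy := by
      have h2 : appS (row h' (xf (n := n) (R := k))) V (appS (gm h (Mt (k := k))) V v) = 0 :=
        (congrArg (fun φ => appS φ V v) (comp_eq_zero h h')).trans (appS_zero _ _)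
      have h3 : appS (row h' (xf (n := n) (R := k))) V (res _ hVU s) = 0 := by
        rw [appS_res, hs, map_zero]
      rw [h2, h3]
    rw [evT_row, evT_row, ← Finset.add_sum_erase _ _ (Finset.mem_univ j),
      ← Finset.add_sum_erase _ _ (Finset.mem_univ j)] at h1
    rw [Finset.sum_congr rfl fun i hi => by rw [key y hy i (Finset.ne_of_mem_erase hi)]] at h1
    exact (isUnit_al y (hVa hy)).mul_left_cancel (add_right_cancel h1)
  · exact key y hy j hj

theorem epi_row (h : m + (1 : ℕ) = m') : Epi (row h (xf (n := n) (R := k))) := by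
  refine epi_of_locally_surjective _ fun U s x hx => ?_
  obtain ⟨a, ha⟩ := KoszulP1.exists_xf_notMem (R := k) x
  let V := U ⊓ Proj.basicOpen (gr n k) (xf a).1
  have hV : V ≤ Proj.basicOpen (gr n k) (xf a).1 := inf_le_right
  refine ⟨V, inf_le_left, ⟨hx, ha⟩, ?_⟩
  obtain ⟨t, ht⟩ := (mulMap_app_bijective (xf (n := n) (R := k) a) h V hV).2 (res _ (inf_le_left : V ≤ U) s)
  refine ⟨appS (inc m a) V t, ?_⟩
  have h1 : appS (row h (xf (n := n) (R := k))) V (appS (inc m a) V t) = appS (mulMap (xf a) h) V t :=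
    congrArg (fun φ => appS φ V t) (biproduct.ι_desc (fun i => mulMap (xf (R := k) i) h) a)
  exact h1.trans ht

/-- `0 ⟶ K ⟶ O(m')^{n+1} ⟶ O(m'') ⟶ 0`. -/
noncomputable abbrev seq₂ (n : ℕ) (k : Type u) [Field k] {m' m'' : ℤ} (h' : m' + (1 : ℕ) = m'') :
    ShortComplex (Proj (gr n k)).Modules :=
  ShortComplex.mk (kernel.ι (row h' (xf (n := n) (R := k)))) (row h' (xf (n := n) (R := k))) (kernel.condition _)

theorem shortExact₂ (h' : m' + (1 : ℕ) = m'') : (seq₂ n k h').ShortExact :=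
  haveI := epi_row (k := k) (n := n) h'
  { exact := ShortComplex.exact_kernel _ }

/-- `O(m)^{2n-1} ⟶ K`. -/
noncomputable def toK [CharZero k] (h : m + (1 : ℕ) = m') (h' : m' + (1 : ℕ) = m'') :
    OO n k (Fin (2 * n - 1)) m ⟶ kernel (row h' (xf (n := n) (R := k))) :=
  kernel.lift _ (gm h Mt) (comp_eq_zero h h')

theorem toK_ι [CharZero k] (h : m + (1 : ℕ) = m') (h' : m' + (1 : ℕ) = m'') :
    toK (k := k) (n := n) h h' ≫ kernel.ι _ = gm h Mt := kernel.lift_ι _ _ _

theorem epi_toK [CharZero k] (h : m + (1 : ℕ) = m') (h' : m' + (1 : ℕ) = m'') : Epi (toK (k := k) (n := n) h h') := by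
  have h1 : (ShortComplex.mk (gm h (Mt (k := k) (n := n))) (row h' xf) (comp_eq_zero h h')).Exact :=
    exact_of_locally (exact_aux h h')
  rw [ShortComplex.exact_iff_epi_kernel_lift] at h1
  exact h1

/-- `0 ⟶ E ⟶ O(m)^{2n-1} ⟶ K ⟶ 0`. -/
noncomputable abbrev seq₁ (n : ℕ) (k : Type u) [Field k] [CharZero k] {m m' m'' : ℤ} (h : m + (1 : ℕ) = m')
    (h' : m' + (1 : ℕ) = m'') : ShortComplex (Proj (gr n k)).Modules :=
  ShortComplex.mk (kernel.ι (toK (k := k) (n := n) h h')) (toK h h') (kernel.condition _)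

theorem shortExact₁ [CharZero k] (h : m + (1 : ℕ) = m') (h' : m' + (1 : ℕ) = m'') : (seq₁ n k h h').ShortExact :=
  haveI := epi_toK (k := k) (n := n) h h'
  { exact := ShortComplex.exact_kernel _ }

end K699.WronEx
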